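import Cfsg.Agent.Lib.PushUp2.Path

/-!
The minimal noncommuting distance is one: some automorphism of `T` moves `V` outside `Q`.
-/

set_option autoImplicit false

namespace Cfsg.Agent.Lib.PushUp2

open scoped commutatorElement

variable {Γ : Type*} [Group Γ]

namespace Data

variable {D : Data Γ}

theorem adjN_self (g : Γ) {n : Γ} (hn : n ∈ D.N) : D.AdjN n g (g * n) (cj g D.T) :=
  ⟨hn, 1, D.X.one_mem, 1, D.X.one_mem, by group, by rw [mul_one]⟩

theorem Near.left_mul : ∀ {k : ℕ} {g h : Γ} (c : Γ), D.Near k g h → D.Near k (c * g) (c * h)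
  | 0, g, h, c, hgh => by
    show (c * g)⁻¹ * (c * h) ∈ D.X
    simpa [mul_assoc] using (show g⁻¹ * h ∈ D.X from hgh)
  | _ + 1, _, _, c, ⟨u, hu, n, E, a⟩ => ⟨c * u, Near.left_mul c hu, n, cj c E, a.left_mul c⟩

theorem Near.sameX_left {k : ℕ} {g g' h : Γ} (hn : D.Near k g h) (hg : g⁻¹ * g' ∈ D.X) :
    D.Near k g' h := (hn.symm.sameX_right hg).symm

theorem exists_dist : ∃ k g h, D.Near k g h ∧ ¬ cj g D.V ≤ cj h D.Q := by
  by_contra hcon
  push Not at hcon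
  set W := ⨆ d ∈ {d : Γ | ∃ k, D.Near k 1 d}, cj d D.V with hW
  have hWQ : W ≤ D.Q := iSup₂_le fun d ⟨k, hk⟩ => by
    have := hcon k d 1 hk.symm
    rwa [cj_one] at this
  have hinv : ∀ y, (∀ d, (∃ k, D.Near k 1 d) → ∃ k, D.Near k 1 (y * d)) →
      ∀ a ∈ W, y * a * y⁻¹ ∈ W := by
    intro y hy a ha
    have hle : cj y W ≤ W := by
      simp only [hW, cj, Subgroup.map_iSup]
      refine iSup₂_le fun d hd => ?_
      show cj y (cj d D.V) ≤ _
      rw [← cj_mul]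
      exact le_biSup (fun d => cj d D.V) (hy d hd)
    exact hle (conj_mem_cj ha)
  have hbot := D.core W (hWQ.trans D.Q_le_T)
    (fun x hx => hinv x fun d ⟨k, hk⟩ => ⟨k, by
      have := hk.left_mul x
      rw [mul_one] at this
      exact this.sameX_left (by simpa using hx)⟩)
    (fun n hn => hinv n fun d ⟨k, hk⟩ => ⟨k + 1, by
      have := hk.left_mul n
      rw [mul_one] at this
      have a := adjN_self (D := D) 1 hn
      rw [one_mul] at a
      exact Near.prepend ⟨n, _, a⟩ this⟩)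
  refine D.V_ne (le_bot_iff.1 (hbot ▸ ?_))
  have h1 : cj 1 D.V ≤ W := le_biSup (fun d => cj d D.V)
    (show (1 : Γ) ∈ {d : Γ | ∃ k, D.Near k 1 d} from ⟨0, by show (1 : Γ)⁻¹ * 1 ∈ D.X; simp⟩)
  rwa [cj_one] at h1

theorem exists_good : ∃ n ∈ D.N, ¬ D.Bad n := by
  by_contra hcon
  push Not at hcon
  set W := ⨆ n ∈ D.N, (cj n D.V ⊔ D.V) with hW
  have hVT : D.V ≤ D.T := D.V_le_Q.trans D.Q_le_T
  have hWT : W ≤ D.T := iSup₂_le fun n hn => sup_le ((cj_mono n hVT).trans_eq (D.cj_T hn)) hVT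
  have hbot := D.core W hWT (fun x hx a ha => by
    have hle : cj x W ≤ W := by
      simp only [hW, cj, Subgroup.map_iSup]
      refine iSup₂_le fun n hn => ?_
      refine le_trans ?_ (le_biSup (fun n => cj n D.V ⊔ D.V) hn)
      rintro _ ⟨u, hu, rfl⟩
      simpa [cj] using hcon n hn x hx u hu
    exact hle (conj_mem_cj ha))
    fun m hm a ha => by
    have hle : cj m W ≤ W := by
      simp only [hW, cj, Subgroup.map_iSup]
      refine iSup₂_le fun n hn => ?_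
      show cj m (cj n D.V ⊔ D.V) ≤ _
      rw [cj_sup, ← cj_mul]
      exact sup_le (le_sup_left.trans (le_biSup (fun n => cj n D.V ⊔ D.V) (D.N.mul_mem hm hn)))
        (le_sup_left.trans (le_biSup (fun n => cj n D.V ⊔ D.V) hm))
    exact hle (conj_mem_cj ha)
  exact D.V_ne (le_bot_iff.1 (hbot ▸ le_sup_right.trans
    (le_biSup (fun n => cj n D.V ⊔ D.V) D.N.one_mem)))

theorem Path.good_both {b : ℕ} (P : D.Path b) (hF : D.Far b) (hb : 2 ≤ b) :
    ¬ D.Bad (P.off 0) ∧ ¬ D.Bad (P.off 0)⁻¹ := by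
  refine ⟨?_, P.good_left hF hb⟩
  obtain ⟨n, hnN, hn⟩ := exists_good (D := D)
  have h : ∀ j, ∃ P' : D.Path b, P'.off j = P.off 0 := by
    intro j
    induction j with
    | zero => exact ⟨P, rfl⟩
    | succ j ih =>
      obtain ⟨P', hP'⟩ := ih
      obtain ⟨P'', -, -, hi⟩ := P'.exists_shift hF (by omega) hnN hn
      exact ⟨P'', by rw [(hi j).2.2, hP']⟩
  obtain ⟨P', hP'⟩ := h (b - 1)
  have h1 := (P'.rev hF (by omega)).good_left hF hb
  simpa [Path.rev, hP'] using h1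

theorem triple {n g h h' : Γ} {E E' : Subgroup Γ} (a : D.AdjN n g h E) (a' : D.AdjN n g h' E') :
    ∃ y ∈ cj g D.X, h⁻¹ * (y * h') ∈ D.X ∧ cj y E' = E := by
  obtain ⟨-, x, hx, c, hc, rfl, rfl⟩ := a
  obtain ⟨-, x', hx', c', hc', rfl, rfl⟩ := a'
  refine ⟨g * x * x'⁻¹ * g⁻¹, mem_cj.2 ?_, ?_, ?_⟩
  · simpa [mul_assoc] using D.X.mul_mem hx (D.X.inv_mem hx')
  · have e : (g * x * n * c)⁻¹ * (g * x * x'⁻¹ * g⁻¹ * (g * x' * n * c')) = c⁻¹ * c' := by group
    rw [e]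
    exact D.X.mul_mem (D.X.inv_mem hc) hc'
  · rw [← cj_mul]
    congr 1; group

/-- Alternating extension of a critical path. -/
theorem exists_chain {b : ℕ} (P₀ : D.Path b) (hF : D.Far b) (hb : 2 ≤ b) : ∀ j : ℕ,
    ∃ P : D.Path b, (∀ i < b + j, D.AdjN (P.off i) (P.f i) (P.f (i + 1)) (P.E i)) ∧
      (∀ i ≤ j, ¬ cj (P.f i) D.V ≤ cj (P.f (i + b)) D.Q) ∧
      ∀ i < j, P.E i ≠ P.E (i + 1) ∧ ∃ y ∈ cj (P.f (i + 1)) D.X,
        (P.f i)⁻¹ * (y * P.f (i + 2)) ∈ D.X ∧ cj y (P.E (i + 1)) = P.E i := by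
  intro j
  induction j with
  | zero =>
    exact ⟨P₀, P₀.adj, fun i hi => by obtain rfl := Nat.le_zero.1 hi; simpa using P₀.crit,
      fun i hi => absurd hi (Nat.not_lt_zero i)⟩
  | succ j ih =>
    obtain ⟨P, h1, h2, h3⟩ := ih
    have hg := P.good_both hF hb
    obtain ⟨P', hne, hoff, hi⟩ := P.exists_shift hF (by omega) (P.adj 0 (by omega)).1 hg.1
    refine ⟨P', fun i hij => ?_, fun i hij => ?_, fun i hij => ?_⟩
    · match i with
      | 0 => exact P'.adj 0 (by omega)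
      | i + 1 =>
        rw [(hi i).2.2, (hi i).2.1, (hi i).1, (hi (i + 1)).1]
        exact h1 i (by omega)
    · match i with
      | 0 => simpa using P'.crit
      | i + 1 =>
        rw [show i + 1 + b = (i + b) + 1 by omega, (hi i).1, (hi (i + b)).1]
        exact h2 i (by omega)
    · match i with
      | 0 =>
        refine ⟨by rw [(hi 0).2.1]; exact hne, ?_⟩
        have a := (P'.adj 0 (by omega)).symm
        rw [hoff, inv_inv, show (0 : ℕ) + 1 = 0 + 1 from rfl, (hi 0).1] at a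
        rw [(hi 0).1, show (0 : ℕ) + 2 = 1 + 1 from rfl, (hi 1).1, (hi 0).2.1]
        exact triple a (P.adj 0 (by omega))
      | i + 1 =>
        rw [(hi i).1, (hi (i + 1)).1, show i + 1 + 2 = (i + 2) + 1 by omega, (hi (i + 2)).1,
          (hi i).2.1, (hi (i + 1)).2.1]
        exact h3 i (by omega)

theorem comm_eq_of_sq {a b : Γ} (h : ⁅a, b⁆ * ⁅a, b⁆ = 1) : ⁅b, a⁆ = ⁅a, b⁆ := by
  rw [← commutatorElement_inv a b]
  exact inv_eq_of_mul_eq_one_left h

theorem K_fixed {g y x : Γ} (hy : y ∈ cj g D.X) (hx : x ∈ cj g D.K) : y * x * y⁻¹ = x := by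
  rw [mem_cj] at hy hx
  have h := (D.mem_K _ (D.Z_le_V (D.K_le_Z hx))).1 hx _ hy
  have h' := (comm_cj g y x).1 h
  rw [h', mul_inv_cancel_right]

/-- A triple carries `K`-membership across the middle vertex. -/
theorem K_transfer {g g' g'' y x : Γ} (hy : y ∈ cj g' D.X) (h : g⁻¹ * (y * g'') ∈ D.X)
    (h1 : x ∈ cj g' D.K) (h2 : x ∈ cj g'' D.K) : x ∈ cj g D.K := by
  rw [← (sameX h).2.2, cj_mul, ← K_fixed hy h1]
  exact conj_mem_cj h2

theorem false_of_three {b : ℕ} (P₀ : D.Path b) (hF : D.Far b) (hb : 3 ≤ b) : False := by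
  obtain ⟨P, hadj, hcrit, htr⟩ := exists_chain P₀ hF (by omega) 3
  have win : ∀ i ≤ 3, D.Crit (P.f i) (P.f (i + b)) (P.E i) (P.E (i + (b - 1))) := fun i hi =>
    (Path.mk (fun k => P.f (i + k)) (fun k => P.E (i + k)) (fun k => P.off (i + k))
      (fun k hk => hadj (i + k) (by omega)) (hcrit i hi) : D.Path b).toCrit hF (by omega)
  have c1 := win 1 (by omega)
  obtain ⟨v, hv, hvQ⟩ := SetLike.not_le_iff_exists.1 c1.2.2.2.2
  obtain ⟨w, hw, hwQ⟩ := SetLike.not_le_iff_exists.1 c1.symm.2.2.2.2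
  have hwE : w ∈ P.E 1 := c1.2.2.1 hw
  have hvE : v ∈ P.E (1 + (b - 1)) := c1.2.2.2.1 hv
  have hvZ : ¬ InZ (P.E 1) v := fun h => hvQ (c1.2.1.mem_Q hvE fun u hu =>
    (h.2.2 u (c1.2.2.1 hu)).symm)
  set x := ⁅v, w⁆ with hxdef
  have hx1 : InZ (P.E 1) x := c1.1.comm_inZ hwE hv
  have hxK1 : x ∉ cj (P.f 1) D.K := c1.1.comm_notK hwE hwQ hv hvZ
  have hxb : x ∈ cj (P.f (1 + b)) D.V := by
    have h := c1.2.1.comm_inZ hvE hw
    rw [comm_eq_of_sq hx1.2.1] at h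
    exact c1.2.1.inZ_mem_V h
  have hxV2 : x ∈ cj (P.f 2) D.V := (hadj 1 (by omega)).edge'.inZ_mem_V hx1
  obtain ⟨hne1, -⟩ := htr 1 (by omega)
  obtain ⟨hne2, -⟩ := htr 2 (by omega)
  have hxK2 : x ∈ cj (P.f 2) D.K := by
    refine (win 2 (by omega)).mem_K (hadj 1 (by omega)).edge' hne1 hxV2 hx1.2.2 fun u hu => ?_
    have a := (hadj (1 + b) (by omega)).symm
    rw [show 1 + b + 1 = 2 + b by omega] at a
    have hn : D.Near 1 (P.f (2 + b)) (P.f (1 + b)) :=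
      ⟨P.f (2 + b), by show _ ∈ D.X; simp, _, _, a⟩
    exact hF.commute (by omega) hn hu hxb
  have hx2 : InZ (P.E 2) x := (win 2 (by omega)).1.K_inZ hxK2
  have hxV3 : x ∈ cj (P.f 3) D.V := (hadj 2 (by omega)).edge'.inZ_mem_V hx2
  have hxK3 : x ∈ cj (P.f 3) D.K := by
    refine (win 3 (by omega)).mem_K (hadj 2 (by omega)).edge' hne2 hxV3 hx2.2.2 fun u hu => ?_
    have a := (hadj (1 + b) (by omega)).symm
    rw [show 1 + b + 1 = 2 + b by omega] at a
    have a' := (hadj (2 + b) (by omega)).symm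
    rw [show 2 + b + 1 = 3 + b by omega] at a'
    have hn : D.Near 2 (P.f (3 + b)) (P.f (1 + b)) :=
      ⟨P.f (2 + b), ⟨P.f (3 + b), by show _ ∈ D.X; simp, _, _, a'⟩, _, _, a⟩
    exact hF.commute (by omega) hn hu hxb
  obtain ⟨-, y, hy, hyg, -⟩ := htr 1 (by omega)
  exact hxK1 (K_transfer hy hyg hxK2 hxK3)

theorem false_of_two (P₀ : D.Path 2) (hF : D.Far 2) : False := by
  obtain ⟨P, hadj, hcrit, htr⟩ := exists_chain P₀ hF le_rfl 2
  let P1 : D.Path 2 := Path.mk (fun k => P.f (1 + k)) (fun k => P.E (1 + k))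
    (fun k => P.off (1 + k)) (fun k hk => hadj (1 + k) (by omega)) (hcrit 1 (by omega))
  have c0 := P.toCrit hF (by omega)
  have c1 : D.Crit (P.f 1) (P.f 3) (P.E 1) (P.E 2) := P1.toCrit hF (by omega)
  obtain ⟨hne01, y, hy, hyg, hyE⟩ := htr 0 (by omega)
  obtain ⟨hne12, -⟩ := htr 1 (by omega)
  obtain ⟨v, hv, hvQ⟩ := SetLike.not_le_iff_exists.1 c0.2.2.2.2
  obtain ⟨w, hw, hwQ⟩ := SetLike.not_le_iff_exists.1 c1.symm.2.2.2.2
  have hvE1 : v ∈ P.E 1 := c0.2.2.2.1 hv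
  have hwE1 : w ∈ P.E 1 := c1.2.2.1 hw
  have a0 := hadj 0 (by omega)
  have a1 := hadj 1 (by omega)
  have a2 := hadj 2 (by omega)
  have hwX : w ∈ cj (P.f 1) D.X := a1.edge.le_X hwE1
  have hmov : cj w (P.E 0) ≠ P.E 0 := a1.edge.moved a0.edge' hne01 hwE1 hwQ
  set h := w * y with hh
  have hhX : (P.f 1)⁻¹ * (h * P.f 1) ∈ D.X := by
    have := D.X.mul_mem (mem_cj.1 hwX) (mem_cj.1 hy)
    simpa [hh, mul_assoc] using this
  have hh2 : (w * P.f 0)⁻¹ * (h * P.f 2) ∈ D.X := by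
    simpa [hh, mul_assoc] using hyg
  let Ph : D.Path 2 :=
    { f := fun k => h * P.f (1 + k)
      E := fun k => cj h (P.E (1 + k))
      off := fun k => P.off (1 + k)
      adj := fun k hk => (hadj (1 + k) (by omega)).left_mul h
      crit := fun hle => hcrit 1 (by omega) ((cj_le_cj (g := h)).1 (by
        rwa [cj_mul h, cj_mul h] at hle)) }
  have ch : D.Crit (h * P.f 1) (h * P.f 3) (cj h (P.E 1)) (cj h (P.E 2)) :=
    Ph.toCrit hF (by omega)
  have hne : P.E 0 ≠ cj h (P.E 1) := by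
    rw [hh, cj_mul, hyE]; exact hmov.symm
  have hkey : ¬ cj (P.f 0) D.V ≤ cj (w * P.f 0) D.Q := fun hle => by
    refine shift ch (a0.symm.sameX_left hhX) hne (P.good_both hF le_rfl).2 (hle.trans ?_)
    rw [← (sameX hh2).2.1]
    exact (a2.left_mul h).edge.Q_le
  have aw : D.AdjN (P.off 0) (w * P.f 0) (P.f 1) (cj w (P.E 0)) := by
    refine (a0.left_mul w).sameX_right ?_
    have := D.X.inv_mem (mem_cj.1 hwX)
    simpa [mul_assoc] using this
  let Pz : D.Path 2 :=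
    { f := fun k => match k with
        | 0 => P.f 0
        | 1 => P.f 1
        | _ + 2 => w * P.f 0
      E := fun k => match k with
        | 0 => P.E 0
        | _ + 1 => cj w (P.E 0)
      off := fun k => match k with
        | 0 => P.off 0
        | _ + 1 => (P.off 0)⁻¹
      adj := fun k hk => match k with
        | 0 => a0
        | 1 => aw.symm
      crit := hkey }
  have cz : D.Crit (P.f 0) (w * P.f 0) (P.E 0) (cj w (P.E 0)) := Pz.toCrit hF (by omega)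
  set v' := w * v * w⁻¹ with hv'
  have hv'V : v' ∈ cj (w * P.f 0) D.V := by rw [cj_mul]; exact conj_mem_cj hv
  have hv'E : v' ∈ P.E 0 := cz.2.2.1 hv'V
  have hvE' : v ∈ cj w (P.E 0) := cz.2.2.2.1 hv
  have hvZ : ¬ InZ (P.E 0) v := fun hz => hvQ (c0.2.1.mem_Q hvE1 fun u hu =>
    (hz.2.2 u (c0.2.2.1 hu)).symm)
  have hv'Q : v' ∉ cj (P.f 0) D.Q := by
    intro hq
    obtain ⟨u, hu, huQ⟩ := SetLike.not_le_iff_exists.1 hkey
    have hz := cz.2.1.fix (cz.2.2.2.1 hu) huQ hv'V (Q_cent' hq hu).symm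
    obtain ⟨c, hc, -⟩ := a0.edge.base
    rw [hc, ← cj_mul, inZ_iff] at hz
    refine hvZ ?_
    rw [hc, inZ_iff]
    simpa [hv', mul_assoc] using hz
  set x := ⁅v, v'⁆ with hxdef
  have hx0 : InZ (P.E 0) x := cz.1.comm_inZ hv'E hv
  have hx0' : InZ (cj w (P.E 0)) x := by
    have h' := cz.2.1.comm_inZ hvE' hv'V
    rwa [comm_eq_of_sq hx0.2.1] at h'
  have hxK0 : x ∉ cj (P.f 0) D.K := cz.1.comm_notK hv'E hv'Q hv hvZ
  have hxK1 : x ∈ cj (P.f 1) D.K :=
    mem_K_of_edges a0.edge' aw.edge' hmov.symm (a0.edge'.inZ_mem_V hx0) hx0.2.2 hx0'.2.2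
  -- the same commutator seen from `P.f 2`
  have hvv : v * v = 1 := V_sq' hv
  have hww : w * w = 1 := V_sq' hw
  set w' := v * w * v⁻¹ with hw'
  have hvX2 : v ∈ cj (P.f 2) D.X := a1.edge'.le_X hvE1
  have hwQ2 : w ∈ cj (P.f 2) D.Q := by
    refine hF 1 (by omega) (P.f 3) (P.f 2) ?_ hw
    exact ⟨P.f 3, by show _ ∈ D.X; simp, _, _, a2.symm⟩
  have hw'Q2 : w' ∈ cj (P.f 2) D.Q := Q_conj _ hvX2 hwQ2
  have hw'V : w' ∈ cj (v * P.f 3) D.V := by rw [cj_mul]; exact conj_mem_cj hw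
  have hw'w : w' * w' = 1 := V_sq' hw'V
  have hv'v : v' * v' = 1 := V_sq' hv'V
  have sqc : ∀ {a b : Γ}, a * a = 1 → b * b = 1 → ⁅a, b⁆ = a * b * (a * b) := by
    intro a b ha hb
    rw [commutatorElement_def, inv_eq_of_mul_eq_one_left ha, inv_eq_of_mul_eq_one_left hb]
    group
  have hxeq : x = ⁅w', w⁆ := by
    have e : v * v' = w' * w := by
      rw [hv', hw', inv_eq_of_mul_eq_one_left hvv, inv_eq_of_mul_eq_one_left hww]
      group
    rw [hxdef, sqc hvv hv'v, sqc hw'w hww, e]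
  have av : D.AdjN (P.off 2) (P.f 2) (v * P.f 3) (cj v (P.E 2)) := by
    refine (a2.left_mul v).sameX_left ?_
    have := D.X.inv_mem (mem_cj.1 hvX2)
    simpa [mul_assoc] using this
  have hx2' : InZ (cj v (P.E 2)) x := by
    rw [hxeq]; exact av.edge'.comm_inZ (av.edge.Q_le hwQ2) hw'V
  have hx2 : InZ (P.E 2) x := by
    have h' := a2.edge'.comm_inZ (a2.edge.Q_le hw'Q2) hw
    rw [hxeq, ← comm_eq_of_sq h'.2.1] at *
    exact h'
  have hxK2 : x ∈ cj (P.f 2) D.K :=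
    mem_K_of_edges a2.edge av.edge (a1.edge'.moved a2.edge hne12.symm hvE1 hvQ).symm
      (a2.edge.inZ_mem_V hx2) hx2.2.2 hx2'.2.2
  exact hxK0 (K_transfer hy hyg hxK1 hxK2)

/-- Some automorphism of `T` moves `V` outside `Q`. -/
theorem exists_not_le (D : Data Γ) : ∃ n ∈ D.N, ¬ cj n D.V ≤ D.Q := by
  classical
  obtain ⟨g, h, hn, hcr⟩ := Nat.find_spec (exists_dist (D := D))
  set b := Nat.find (exists_dist (D := D)) with hb
  have hF : D.Far b := fun k hk g h hgh => not_not.1 fun hne =>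
    Nat.find_min (exists_dist (D := D)) hk ⟨g, h, hgh, hne⟩
  obtain ⟨f, E, off, h0, hfb, hadj⟩ := exists_seq hn
  let P : D.Path b :=
    { f := f, E := E, off := off, adj := hadj
      crit := by rw [hfb, (sameX h0).1]; exact hcr }
  match b, hF, P with
  | 0, _, P => exact absurd (cj_mono (P.f 0) D.V_le_Q) P.crit
  | 1, _, P =>
    obtain ⟨hnN, x, hx, x', hx', he, -⟩ := P.adj 0 (by omega)
    refine ⟨(P.off 0)⁻¹, D.N.inv_mem hnN, fun hle => P.crit ?_⟩
    rw [show P.f 1 = P.f 0 * x * P.off 0 * x' from he, (cj_mulX _ hx').2.1, cj_mul,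
      ← (cj_mulX (P.f 0) hx).1]
    refine cj_mono _ ?_
    rw [← cj_le_cj (g := (P.off 0)⁻¹), cj_inv_cancel]
    exact hle
  | 2, hF, P => exact (false_of_two P hF).elim
  | b + 3, hF, P => exact (false_of_three P hF (by omega)).elim

end Data

end Cfsg.Agent.Lib.PushUp2
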