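import Mathlib.Algebra.Group.Subgroup.Basic
import Mathlib.GroupTheory.Commutator.Basic
import Mathlib.GroupTheory.Index
import Mathlib.Tactic.Group

/-!
Pushing up over `SL₂(2ⁿ)`: the data inside an overgroup `Γ` in which every automorphism of the
Sylow subgroup is induced by conjugation.
-/

set_option autoImplicit false

namespace Cfsg.Agent.Lib.PushUp2

open scoped commutatorElement

variable {Γ : Type*} [Group Γ]

/-- Conjugate of a subgroup. -/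
def cj (g : Γ) (H : Subgroup Γ) : Subgroup Γ := H.map (MulAut.conj g).toMonoidHom

theorem mem_cj {g a : Γ} {H : Subgroup Γ} : a ∈ cj g H ↔ g⁻¹ * a * g ∈ H := by
  constructor
  · rintro ⟨h, hh, rfl⟩
    simpa [mul_assoc] using hh
  · intro h
    exact ⟨_, h, by simp [mul_assoc]⟩

theorem conj_mem_cj {g a : Γ} {H : Subgroup Γ} (h : a ∈ H) : g * a * g⁻¹ ∈ cj g H :=
  mem_cj.2 (by simpa [mul_assoc] using h)

theorem cj_mul (g h : Γ) (H : Subgroup Γ) : cj (g * h) H = cj g (cj h H) := by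
  ext a; simp only [mem_cj, mul_inv_rev, mul_assoc]

theorem cj_one (H : Subgroup Γ) : cj 1 H = H := by ext a; simp [mem_cj]

theorem cj_mono (g : Γ) {H K : Subgroup Γ} (h : H ≤ K) : cj g H ≤ cj g K := Subgroup.map_mono h

theorem cj_inv_cancel (g : Γ) (H : Subgroup Γ) : cj g⁻¹ (cj g H) = H := by
  rw [← cj_mul, inv_mul_cancel, cj_one]

theorem cj_le_cj {g : Γ} {H K : Subgroup Γ} : cj g H ≤ cj g K ↔ H ≤ K :=
  ⟨fun h => by simpa [cj_inv_cancel] using cj_mono g⁻¹ h, cj_mono g⟩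

theorem cj_inj {g : Γ} {H K : Subgroup Γ} (h : cj g H = cj g K) : H = K := by
  rw [← cj_inv_cancel g H, h, cj_inv_cancel]

theorem cj_sup (g : Γ) (H K : Subgroup Γ) : cj g (H ⊔ K) = cj g H ⊔ cj g K := Subgroup.map_sup _ _ _

theorem cj_eq_of_mem {g : Γ} {H : Subgroup Γ} (h : g ∈ H) : cj g H = H := by
  ext a
  rw [mem_cj]
  refine ⟨fun ha => ?_, fun ha => H.mul_mem (H.mul_mem (H.inv_mem h) ha) h⟩
  simpa [mul_assoc] using H.mul_mem (H.mul_mem h ha) (H.inv_mem h)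

/-- The facts about `X` (with `X / Q ≅ SL₂(2ⁿ)`, `T` a Sylow 2-subgroup, `Z = Ω₁(Z(T))`,
`V = ⟨Z^X⟩`, `K = C_V(X)`) used by the chain argument. -/
structure Data (Γ : Type*) [Group Γ] where
  X : Subgroup Γ
  Q : Subgroup Γ
  T : Subgroup Γ
  V : Subgroup Γ
  Z : Subgroup Γ
  K : Subgroup Γ
  finX : Finite ↥X
  Q_le_T : Q ≤ T
  T_le_X : T ≤ X
  V_le_Q : V ≤ Q
  Z_le_V : Z ≤ V
  K_le_Z : K ≤ Z
  V_ne : V ≠ ⊥
  Q_norm : ∀ x ∈ X, ∀ a ∈ Q, x * a * x⁻¹ ∈ Q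
  V_norm : ∀ x ∈ X, ∀ a ∈ V, x * a * x⁻¹ ∈ V
  V_sq : ∀ v ∈ V, v * v = 1
  Q_cent : ∀ a ∈ Q, ∀ v ∈ V, a * v = v * a
  mem_Q : ∀ t ∈ T, (∀ v ∈ V, t * v = v * t) → t ∈ Q
  mem_Z : ∀ z, z ∈ Z ↔ z ∈ T ∧ z * z = 1 ∧ ∀ t ∈ T, t * z = z * t
  mem_K : ∀ k ∈ V, k ∈ K ↔ ∀ x ∈ X, x * k = k * x
  fix_eq : ∀ t ∈ T, t ∉ Q → ∀ v ∈ V, t * v = v * t → v ∈ Z
  comm_mem : ∀ t ∈ T, ∀ v ∈ V, ⁅v, t⁆ ∈ Z
  comm_not_mem : ∀ t ∈ T, t ∉ Q → ∀ v ∈ V, v ∉ Z → ⁅v, t⁆ ∉ K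
  relIndex_eq : Z.relIndex V = Q.relIndex T
  gen : ∀ x ∈ X, cj x T ≠ T → X ≤ T ⊔ cj x T
  exists_other : ∃ x ∈ X, cj x T ≠ T
  no_norm : ∀ t ∈ T, t ∉ Q → ∀ x ∈ X, cj x T ≠ T → cj t (cj x T) ≠ cj x T
  core : ∀ C : Subgroup Γ, C ≤ T → (∀ x ∈ X, ∀ a ∈ C, x * a * x⁻¹ ∈ C) →
    (∀ n ∈ Subgroup.normalizer (T : Set Γ), ∀ a ∈ C, n * a * n⁻¹ ∈ C) → C = ⊥

namespace Data

variable (D : Data Γ)

/-- The set of automorphism-inducing elements. -/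
def N : Subgroup Γ := Subgroup.normalizer (D.T : Set Γ)

theorem cj_T {n : Γ} (hn : n ∈ D.N) : cj n D.T = D.T := by
  ext a
  rw [mem_cj]
  exact ((Subgroup.mem_normalizer_iff''.1 hn) a).symm

theorem cj_Q {x : Γ} (hx : x ∈ D.X) : cj x D.Q = D.Q := by
  ext a
  rw [mem_cj]
  refine ⟨fun h => ?_, fun h => ?_⟩
  · simpa [mul_assoc] using D.Q_norm x hx _ h
  · simpa [mul_assoc] using D.Q_norm x⁻¹ (D.X.inv_mem hx) _ h

theorem cj_V {x : Γ} (hx : x ∈ D.X) : cj x D.V = D.V := by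
  ext a
  rw [mem_cj]
  refine ⟨fun h => ?_, fun h => ?_⟩
  · simpa [mul_assoc] using D.V_norm x hx _ h
  · simpa [mul_assoc] using D.V_norm x⁻¹ (D.X.inv_mem hx) _ h

theorem cj_K {x : Γ} (hx : x ∈ D.X) : cj x D.K = D.K := by
  have key : ∀ y ∈ D.X, ∀ k ∈ D.K, y⁻¹ * k * y = k := fun y hy k hk => by
    rw [mul_assoc, ← ((D.mem_K k (D.Z_le_V (D.K_le_Z hk))).1 hk y hy), inv_mul_cancel_left]
  ext a
  rw [mem_cj]
  refine ⟨fun h => ?_, fun h => ?_⟩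
  · have h1 := key x⁻¹ (D.X.inv_mem hx) _ h
    have h2 : a = x⁻¹ * a * x := by
      simpa [mul_assoc] using h1
    rw [h2]; exact h
  · rw [key x hx a h]; exact h

theorem cj_Z {n : Γ} (hn : n ∈ D.N) : cj n D.Z = D.Z := by
  have key : ∀ m ∈ D.N, ∀ z ∈ D.Z, m * z * m⁻¹ ∈ D.Z := by
    intro m hm z hz
    obtain ⟨hzT, hz2, hzc⟩ := (D.mem_Z z).1 hz
    refine (D.mem_Z _).2 ⟨(Subgroup.mem_normalizer_iff.1 hm z).1 hzT, ?_, fun t ht => ?_⟩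
    · calc m * z * m⁻¹ * (m * z * m⁻¹) = m * (z * z) * m⁻¹ := by group
        _ = 1 := by rw [hz2]; group
    · have h := hzc (m⁻¹ * t * m) ((Subgroup.mem_normalizer_iff''.1 hm t).1 ht)
      calc t * (m * z * m⁻¹) = m * ((m⁻¹ * t * m) * z) * m⁻¹ := by group
        _ = m * (z * (m⁻¹ * t * m)) * m⁻¹ := by rw [h]
        _ = m * z * m⁻¹ * t := by group
  ext a
  rw [mem_cj]
  refine ⟨fun h => ?_, fun h => ?_⟩
  · simpa [mul_assoc] using key n hn _ h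
  · simpa [mul_assoc] using key n⁻¹ (D.N.inv_mem hn) _ h

end Data

end Cfsg.Agent.Lib.PushUp2
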