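import Cfsg.Agent.Lib.PushUp2.Near
import Mathlib.GroupTheory.SpecificGroups.Dihedral
import Mathlib.Data.ZMod.Basic

/-!
Pushing up with a dihedral quotient `X / O₂(X)` of order `2q`: necessarily `q = 3`.
-/

set_option autoImplicit false

namespace Cfsg.Agent.Lib.PushUp2

open scoped commutatorElement

/-- An element of order `q ≥ 5` cannot act nontrivially with a fixed subgroup of index at most 4. -/
theorem five_step {X : Type*} [Group X] [Finite X] {y : X} {q : ℕ} (hq : q.Prime) (h5 : 5 ≤ q)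
    (hy : y ^ q = 1) (V W : Subgroup X) [V.Normal] (hV : ∀ v ∈ V, v * v = 1) (hWV : W ≤ V)
    (hidx : W.relIndex V ≤ 4) (hc : ∀ w ∈ W, y * w = w * y) : ∀ v ∈ V, y * v = v * y := by
  intro v hv
  have hab : ∀ a ∈ V, ∀ b ∈ V, a * b = b * a := fun a ha b hb => by
    have h := inv_eq_of_mul_eq_one_left (hV _ (mul_mem ha hb))
    rw [_root_.mul_inv_rev, inv_eq_of_mul_eq_one_left (hV a ha),
      inv_eq_of_mul_eq_one_left (hV b hb)] at h
    exact h.symm
  let St : Subgroup X :=
    { carrier := {x | (∀ w ∈ W, x * w = w * x) ∧ x * v * x⁻¹ * v⁻¹ ∈ W}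
      one_mem' := ⟨fun w _ => by rw [one_mul, mul_one], by simp [one_mem]⟩
      mul_mem' := by
        rintro a b ⟨ha, ha'⟩ ⟨hb, hb'⟩
        refine ⟨fun w hw => by rw [mul_assoc, hb w hw, ← mul_assoc, ha w hw, mul_assoc], ?_⟩
        have h := ha _ hb'
        have e : a * b * v * (a * b)⁻¹ * v⁻¹ = (b * v * b⁻¹ * v⁻¹) * (a * v * a⁻¹ * v⁻¹) := by
          calc a * b * v * (a * b)⁻¹ * v⁻¹ = (a * (b * v * b⁻¹ * v⁻¹)) * v * a⁻¹ * v⁻¹ := by group
            _ = _ := by rw [h]; group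
        rw [e]; exact mul_mem hb' ha'
      inv_mem' := by
        rintro a ⟨ha, ha'⟩
        refine ⟨fun w hw => ((Commute.inv_left (ha w hw : Commute a w))).eq, ?_⟩
        have h := (Commute.inv_left (ha _ ha' : Commute a _)).eq
        have e : a⁻¹ * v * a⁻¹⁻¹ * v⁻¹ = (a * v * a⁻¹ * v⁻¹)⁻¹ := by
          calc a⁻¹ * v * a⁻¹⁻¹ * v⁻¹
              = (a * v * a⁻¹ * v⁻¹)⁻¹ * ((a * v * a⁻¹ * v⁻¹) * a⁻¹) * v * a * v⁻¹ := by group
            _ = (a * v * a⁻¹ * v⁻¹)⁻¹ * (a⁻¹ * (a * v * a⁻¹ * v⁻¹)) * v * a * v⁻¹ := by rw [h]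
            _ = _ := by group
        rw [e]; exact inv_mem ha' }
  by_cases hyS : y ∈ St
  · obtain ⟨-, hyv⟩ := hyS
    have hu : (y * v * y⁻¹ * v⁻¹) ^ 2 ^ 1 = 1 := by
      rw [pow_one, pow_two]; exact hV _ (hWV hyv)
    have hqo : (orderOf y).Coprime 2 :=
      Nat.Coprime.coprime_dvd_left (orderOf_dvd_of_pow_eq_one hy)
        ((Nat.coprime_primes hq Nat.prime_two).2 (by omega))
    have h1 := coprime_step (y := y) (p := v) (by group) (hc _ hyv) hu hqo
    rwa [mul_inv_eq_one, mul_inv_eq_iff_eq_mul] at h1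
  · exfalso
    let W' := W.subgroupOf V
    let f : Fin q → ↥V ⧸ W' := fun i =>
      QuotientGroup.mk ⟨y ^ (i : ℕ) * v * (y ^ (i : ℕ))⁻¹, Subgroup.Normal.conj_mem inferInstance v hv _⟩
    have hcw : ∀ k : ℕ, ∀ w ∈ W, y ^ k * w = w * y ^ k := fun k w hw =>
      (Commute.pow_left (hc w hw : Commute y w) k).eq
    have key : ∀ i j : Fin q, (i : ℕ) < j → f i ≠ f j := by
      intro i j hij he
      have h := (QuotientGroup.eq).1 he
      rw [Subgroup.mem_subgroupOf] at h
      set d := (j : ℕ) - i with hd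
      have hvd := Subgroup.Normal.conj_mem (inferInstance : V.Normal) v hv (y ^ d)
      have hw : y ^ d * v * (y ^ d)⁻¹ * v⁻¹ ∈ W := by
        have e : ((⟨y ^ (i : ℕ) * v * (y ^ (i : ℕ))⁻¹, Subgroup.Normal.conj_mem inferInstance v hv _⟩ : ↥V)⁻¹ *
            ⟨y ^ (j : ℕ) * v * (y ^ (j : ℕ))⁻¹, Subgroup.Normal.conj_mem inferInstance v hv _⟩ : ↥V).1 =
            y ^ (i : ℕ) * (v⁻¹ * (y ^ d * v * (y ^ d)⁻¹)) * (y ^ (i : ℕ))⁻¹ := by
          simp only [Subgroup.coe_mul, InvMemClass.coe_inv]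
          rw [show (j : ℕ) = i + d by omega, pow_add]; group
        rw [e] at h
        have h2 : v⁻¹ * (y ^ d * v * (y ^ d)⁻¹) ∈ W := by
          set u := v⁻¹ * (y ^ d * v * (y ^ d)⁻¹) with hu
          have h3 := hcw (i : ℕ) _ h
          have h4 : u = y ^ (i : ℕ) * u * (y ^ (i : ℕ))⁻¹ := by
            rw [inv_mul_cancel_right] at h3
            exact (mul_left_cancel h3).symm
          rw [h4]; exact h
        rwa [hab _ hvd _ (inv_mem hv)]
      have hd' : y ^ d ∈ St := ⟨fun w hw => hcw d w hw, hw⟩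
      apply hyS
      have hcop : Nat.Coprime d q :=
        (hq.coprime_iff_not_dvd.2 (Nat.not_dvd_of_pos_of_lt (by omega) (by omega))).symm
      obtain ⟨k, hk⟩ := exists_pow_eq_self_of_coprime (x := y) (n := d)
        (Nat.Coprime.coprime_dvd_right (orderOf_dvd_of_pow_eq_one hy) hcop)
      rw [← hk]
      exact pow_mem hd' k
    have hinj : Function.Injective f := by
      intro i j he
      rcases lt_trichotomy (i : ℕ) j with h | h | h
      · exact absurd he (key i j h)
      · exact Fin.ext h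
      · exact absurd he.symm (key j i h)
    have := Nat.card_le_card_of_injective f hinj
    rw [Nat.card_fin] at this
    have h4 : Nat.card (↥V ⧸ W') = W.relIndex V := rfl
    omega

variable {X : Type*} [Group X] [Finite X]

local notation "π" => QuotientGroup.mk' (Cfsg.pCore 2 X)

/-- Elements of a dihedral group of odd degree: two distinct involutions generate. -/
theorem rot_of_two {q : ℕ} (a b : DihedralGroup q) (hq : Odd q) (ha : a ≠ 1) (hb : b ≠ 1)
    (ha2 : a * a = 1) (hb2 : b * b = 1) (hab : a ≠ b) :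
    ∃ j : ZMod q, j ≠ 0 ∧ a * b = DihedralGroup.r j := by
  have refl : ∀ x : DihedralGroup q, x ≠ 1 → x * x = 1 → ∃ i, x = DihedralGroup.sr i := by
    intro x hx hx2
    cases x with
    | sr i => exact ⟨i, rfl⟩
    | r i =>
      exfalso
      rw [DihedralGroup.r_mul_r, DihedralGroup.one_def] at hx2
      injection hx2 with h
      refine hx ?_
      obtain ⟨m, hm⟩ := hq
      have h0 : ((2 * m + 1 : ℕ) : ZMod q) = 0 := by rw [← hm]; exact ZMod.natCast_self q
      have : i = 0 := by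
        push_cast at h0
        linear_combination i * h0 - (m : ZMod q) * h
      rw [this, DihedralGroup.one_def]
  obtain ⟨i, rfl⟩ := refl a ha ha2
  obtain ⟨k, rfl⟩ := refl b hb hb2
  refine ⟨k - i, fun h => hab (by rw [sub_eq_zero.1 h]), DihedralGroup.sr_mul_sr i k⟩

/-- If `X / O₂(X)` is dihedral of order `2q` and no nontrivial characteristic subgroup of `T` is
normal, then `q = 3`. -/
theorem eq_three (hX : Subgroup.centralizer (Cfsg.pCore 2 X : Set X) ≤ Cfsg.pCore 2 X)
    (T : Sylow 2 X) (hT : ∀ C : Subgroup ↥(T : Subgroup X), C.Characteristic → C ≠ ⊥ →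
      ¬ ((C.map (T : Subgroup X).subtype).Normal))
    {q : ℕ} (hq : q.Prime) (e : X ⧸ Cfsg.pCore 2 X ≃* DihedralGroup q) : q = 3 := by
  haveI : Fact (Nat.Prime 2) := ⟨Nat.prime_two⟩
  have hcard : Nat.card (X ⧸ Cfsg.pCore 2 X) = 2 * q := by
    rw [Nat.card_congr e.toEquiv, DihedralGroup.nat_card]
  have hq2 : q ≠ 2 := by
    rintro rfl
    have h1 := Cores.pCore_quotient_pCore (G := X) 2
    have hp : IsPGroup 2 (X ⧸ Cfsg.pCore 2 X) := IsPGroup.of_card (n := 2) (hcard.trans (by norm_num))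
    haveI : Nontrivial (X ⧸ Cfsg.pCore 2 X) := Finite.one_lt_card_iff_nontrivial.1 (by omega)
    exact top_ne_bot ((Cores.pCore_eq_top_iff.2 hp).symm.trans h1)
  by_contra hq3
  have hodd : Odd q := hq.odd_of_ne_two hq2
  have h5 : 5 ≤ q := by
    have h4 : q ≠ 4 := fun h => by rw [h] at hq; exact absurd hq (by decide)
    have := hq.two_le
    omega
  set TT := (T : Subgroup X) with hTT
  set Q := Cfsg.pCore 2 X with hQ
  have hQT : Q ≤ TT := Cores.pCore_le_sylow T
  -- `Ω₁(Z(T))` and its normal closure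
  let Z : Subgroup X :=
    { carrier := {z | z ∈ TT ∧ z * z = 1 ∧ ∀ t ∈ TT, t * z = z * t}
      one_mem' := ⟨one_mem _, one_mul 1, fun t _ => by rw [mul_one, one_mul]⟩
      mul_mem' := by
        rintro a b ⟨ha, ha2, hac⟩ ⟨hb, hb2, hbc⟩
        refine ⟨mul_mem ha hb, ?_, fun t ht => by
          rw [← mul_assoc, hac t ht, mul_assoc, hbc t ht, mul_assoc]⟩
        rw [mul_assoc, ← mul_assoc b, hac b hb, mul_assoc a, hb2, mul_one, ha2]
      inv_mem' := by
        rintro a ⟨ha, ha2, hac⟩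
        rw [inv_eq_of_mul_eq_one_left ha2]
        exact ⟨ha, ha2, hac⟩ }
  let Ω : Subgroup X :=
    { carrier := {v | v ∈ Q ∧ v * v = 1 ∧ ∀ a ∈ Q, a * v = v * a}
      one_mem' := ⟨one_mem _, one_mul 1, fun t _ => by rw [mul_one, one_mul]⟩
      mul_mem' := by
        rintro a b ⟨ha, ha2, hac⟩ ⟨hb, hb2, hbc⟩
        refine ⟨mul_mem ha hb, ?_, fun t ht => by
          rw [← mul_assoc, hac t ht, mul_assoc, hbc t ht, mul_assoc]⟩
        rw [mul_assoc, ← mul_assoc b, hac b hb, mul_assoc a, hb2, mul_one, ha2]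
      inv_mem' := by
        rintro a ⟨ha, ha2, hac⟩
        rw [inv_eq_of_mul_eq_one_left ha2]
        exact ⟨ha, ha2, hac⟩ }
  set V := Subgroup.normalClosure (Z : Set X) with hV
  haveI : Ω.Normal := ⟨fun v ⟨hv, hv2, hvc⟩ g => ⟨(inferInstance : Q.Normal).conj_mem v hv g,
    by rw [show g * v * g⁻¹ * (g * v * g⁻¹) = g * (v * v) * g⁻¹ by group, hv2]; group,
    fun a ha => by
      have h := hvc (g⁻¹ * a * g) (by simpa using (inferInstance : Q.Normal).conj_mem a ha g⁻¹)
      calc a * (g * v * g⁻¹) = g * ((g⁻¹ * a * g) * v) * g⁻¹ := by group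
        _ = g * (v * (g⁻¹ * a * g)) * g⁻¹ := by rw [h]
        _ = g * v * g⁻¹ * a := by group⟩⟩
  have hVΩ : V ≤ Ω := Subgroup.normalClosure_le_normal fun z hz =>
    ⟨hX (Subgroup.mem_centralizer_iff.2 fun a ha => hz.2.2 a (hQT ha)), hz.2.1,
      fun a ha => hz.2.2 a (hQT ha)⟩
  have hVQ : V ≤ Q := fun v hv => (hVΩ hv).1
  have hVsq : ∀ v ∈ V, v * v = 1 := fun v hv => (hVΩ hv).2.1
  have hQV : ∀ a ∈ Q, ∀ v ∈ V, a * v = v * a := fun a ha v hv => (hVΩ hv).2.2 a ha
  have hTne : ¬ TT ≤ Q := fun h => by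
    haveI : (TT : Subgroup X).Normal := le_antisymm h hQT ▸ inferInstance
    have hi := T.not_dvd_index
    rw [show (T : Subgroup X) = Q from le_antisymm h hQT, Subgroup.index_eq_card, hcard] at hi
    exact hi (dvd_mul_right 2 q)
  obtain ⟨t, ht, htQ⟩ := SetLike.not_le_iff_exists.1 hTne
  have hTne' : TT ≠ ⊥ := fun h => by
    rw [h, Subgroup.mem_bot] at ht
    exact htQ (ht ▸ one_mem Q)
  have hZne : Z ≠ ⊥ := fun h => by
    haveI : Nontrivial ↥TT := (Subgroup.nontrivial_iff_ne_bot _).2 hTne'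
    haveI := T.isPGroup'.center_nontrivial
    obtain ⟨k, hk⟩ := IsPGroup.iff_card.1 (T.isPGroup'.to_subgroup (Subgroup.center ↥TT))
    have h2 : 2 ∣ Nat.card (Subgroup.center ↥TT) := by
      rw [hk]
      refine dvd_pow_self 2 fun h0 => ?_
      rw [h0, pow_zero] at hk
      exact absurd hk Finite.one_lt_card.ne'
    obtain ⟨z, hz⟩ := exists_prime_orderOf_dvd_card' 2 h2
    have hz2 : z * z = 1 := by rw [← pow_two, ← hz, pow_orderOf_eq_one]
    have hmem : ((z : ↥TT) : X) ∈ Z := ⟨(z : ↥TT).2,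
      congrArg (fun w : Subgroup.center ↥TT => ((w : ↥TT) : X)) hz2,
      fun t ht => congrArg Subtype.val (Subgroup.mem_center_iff.1 z.2 ⟨t, ht⟩)⟩
    rw [h, Subgroup.mem_bot] at hmem
    rw [show z = 1 from Subtype.ext (Subtype.ext hmem), orderOf_one] at hz
    omega
  have noinv : ∀ C : Subgroup X, C.Normal → C ≤ TT →
      (∀ φ : ↥TT ≃* ↥TT, ∀ a : ↥TT, (a : X) ∈ C → (φ a : X) ∈ C) → C = ⊥ := by
    intro C hCn hC hinv
    by_contra hne
    refine hT (C.subgroupOf TT) (Subgroup.characteristic_iff_le_comap.2 fun φ a ha => hinv φ a ha) ?_ ?_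
    · intro h
      rw [Subgroup.subgroupOf_eq_bot, disjoint_iff, inf_eq_left.2 hC] at h
      exact hne h
    · rw [Subgroup.map_subgroupOf_eq_of_le hC]; exact hCn
  -- facts in the dihedral quotient
  have hrot : ∀ u w : X, u ∉ Q → w ∉ Q → u * u ∈ Q → w * w ∈ Q → π u ≠ π w →
      ∃ j : ZMod q, j ≠ 0 ∧ e (π (u * w)) = DihedralGroup.r j := by
    intro u w hu hw hu2 hw2 hne
    have h1 : ∀ x : X, x ∉ Q → e (π x) ≠ 1 := fun x hx h => hx ((QuotientGroup.eq_one_iff x).1
      (e.injective (h.trans (map_one e).symm)))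
    have h2 : ∀ x : X, x * x ∈ Q → e (π x) * e (π x) = 1 := fun x hx => by
      rw [← map_mul, ← map_mul, show π (x * x) = 1 from (QuotientGroup.eq_one_iff _).2 hx, map_one]
    rw [map_mul, map_mul]
    exact rot_of_two _ _ hodd (h1 u hu) (h1 w hw) (h2 u hu2) (h2 w hw2) fun h => hne (e.injective h)
  -- the odd part of an element over a rotation
  have hodd_part : ∀ d : X, (∃ j : ZMod q, j ≠ 0 ∧ e (π d) = DihedralGroup.r j) →
      ∃ k : ℕ, (d ^ k) ^ q = 1 ∧ d ^ k ∉ Q := by
    rintro d ⟨j, hj, hd⟩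
    have hmem : d ^ q ∈ Q := by
      rw [← QuotientGroup.eq_one_iff]
      refine e.injective ?_
      show e (π (d ^ q)) = e 1
      rw [map_pow, map_pow, hd, DihedralGroup.r_pow, map_one, DihedralGroup.one_def, ZMod.natCast_self,
        mul_zero]
    obtain ⟨k, hk⟩ := Cores.pCore_isPGroup (G := X) 2 ⟨d ^ q, hmem⟩
    have hk' : (d ^ q) ^ 2 ^ k = 1 := congrArg Subtype.val hk
    refine ⟨2 ^ k, by rw [← pow_mul, mul_comm, pow_mul]; exact hk', fun h => hj ?_⟩
    have h1 : e (π (d ^ 2 ^ k)) = 1 := by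
      rw [show π (d ^ 2 ^ k) = 1 from (QuotientGroup.eq_one_iff _).2 h, map_one]
    rw [map_pow, map_pow, hd, DihedralGroup.r_pow, DihedralGroup.one_def] at h1
    injection h1 with h2
    haveI : Fact q.Prime := ⟨hq⟩
    refine (mul_eq_zero.1 h2).resolve_right fun h3 => hq2 ?_
    exact (Nat.prime_dvd_prime_iff_eq hq Nat.prime_two).1
      (hq.dvd_of_dvd_pow ((ZMod.natCast_eq_zero_iff _ _).1 h3))
  -- `T / Q` has order 2
  have hrelQT : Q.relIndex TT = 2 := by
    have h1 : Q.relIndex TT * TT.index = 2 * q := by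
      rw [Subgroup.relIndex_mul_index hQT, Subgroup.index_eq_card, hcard]
    have h2 : ¬ 2 ∣ TT.index := T.not_dvd_index
    obtain ⟨k, hk⟩ : ∃ k, Q.relIndex TT = 2 ^ k :=
      T.isPGroup'.index (H := Q.subgroupOf TT)
    rw [hk] at h1 ⊢
    rcases k with - | - | k
    · exact absurd ⟨q, by simpa using h1⟩ h2
    · simp
    · exfalso
      have h4 : 2 ∣ q := ⟨2 ^ k * TT.index, Nat.eq_of_mul_eq_mul_left (by norm_num)
        (h1.symm.trans (by ring))⟩
      exact hq2 ((Nat.prime_dvd_prime_iff_eq Nat.prime_two hq).1 h4).symm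
  -- conjugates of an element of `T ∖ Q`
  have hsq : ∀ x ∈ TT, x * x ∈ Q := fun x hx => by
    haveI : (Q.subgroupOf TT).Normal := inferInstance
    have h := Subgroup.pow_index_mem (Q.subgroupOf TT) (⟨x, hx⟩ : ↥TT)
    rw [show (Q.subgroupOf TT).index = 2 from hrelQT, pow_two] at h
    exact h
  have hgen : ∀ u ∈ TT, u ∉ Q → ∃ g : X, π (g * u * g⁻¹) ≠ π u := by
    intro u hu huQ
    by_contra h
    push Not at h
    have hall : ∀ y : DihedralGroup q, y * e (π u) = e (π u) * y := fun y => by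
      obtain ⟨g, hg⟩ := QuotientGroup.mk'_surjective Q (e.symm y)
      have h1 := congrArg e (h g)
      rw [map_mul, map_mul, map_mul, map_mul, map_inv, map_inv, show e (π g) = y by
        rw [hg, e.apply_symm_apply], mul_inv_eq_iff_eq_mul] at h1
      exact h1
    obtain ⟨j, hj⟩ : ∃ j, e (π u) = DihedralGroup.sr j := by
      cases hc : e (π u) with
      | sr j => exact ⟨j, rfl⟩
      | r j =>
        exfalso
        have h2 : π (u * u) = 1 := (QuotientGroup.eq_one_iff _).2 (hsq u hu)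
        have h3 : e (π u) * e (π u) = 1 := by rw [← map_mul, ← map_mul, h2, map_one]
        rw [hc, DihedralGroup.r_mul_r, DihedralGroup.one_def] at h3
        injection h3 with h4
        refine huQ ((QuotientGroup.eq_one_iff u).1 (e.injective ?_))
        show e (π u) = e 1
        obtain ⟨m, hm⟩ := hodd
        have h0 : ((2 * m + 1 : ℕ) : ZMod q) = 0 := by rw [← hm]; exact ZMod.natCast_self q
        rw [hc, map_one, DihedralGroup.one_def, show j = 0 by
          push_cast at h0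
          linear_combination j * h0 - (m : ZMod q) * h4]
    have h1 := hall (DihedralGroup.r 1)
    rw [hj, DihedralGroup.r_mul_sr, DihedralGroup.sr_mul_r] at h1
    injection h1 with h2
    haveI : Fact q.Prime := ⟨hq⟩
    have h3 : ((2 : ℕ) : ZMod q) = 0 := by push_cast; linear_combination -h2
    exact hq2 ((Nat.prime_dvd_prime_iff_eq hq Nat.prime_two).1 ((ZMod.natCast_eq_zero_iff _ _).1 h3))
  -- `C_X(V) = Q`
  have hcent : ∀ g : X, g ∈ Subgroup.centralizer (V : Set X) → g ∈ Q := by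
    intro g hg
    by_contra hgQ
    refine hZne (noinv Z ⟨fun z hz x => ?_⟩ (fun z hz => hz.1) fun φ a ha => ?_)
    · set C := Subgroup.centralizer (V : Set X) with hC
      have hQC : Q ≤ C := fun a ha => Subgroup.mem_centralizer_iff.2 fun v hv => (hQV a ha v hv).symm
      have hlt : Q.relIndex C ≠ 1 := fun h1 => hgQ (Subgroup.relIndex_eq_one.1 h1 hg)
      have h1 : Q.relIndex (C ⊔ TT) * (C ⊔ TT).index = 2 * q := by
        rw [Subgroup.relIndex_mul_index (hQT.trans le_sup_right), Subgroup.index_eq_card, hcard]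
      have h3 : Q.relIndex C * C.index = 2 * q := by
        rw [Subgroup.relIndex_mul_index hQC, Subgroup.index_eq_card, hcard]
      have hqdvd : q ∣ Q.relIndex C := by
        by_contra hnd
        have hd : Q.relIndex C ∣ 2 := by
          have : Q.relIndex C ∣ 2 * q := ⟨_, h3.symm⟩
          exact Nat.Coprime.dvd_of_dvd_mul_right ((hq.coprime_iff_not_dvd.2 hnd).symm) this
        haveI : (C.map π).Normal :=
          Subgroup.Normal.map inferInstance _ (QuotientGroup.mk'_surjective _)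
        have hp : IsPGroup 2 ↥(C.map π) := by
          refine IsPGroup.of_card (n := 1) ?_
          rw [pow_one, ← Subgroup.relIndex_ker, QuotientGroup.ker_mk']
          exact ((Nat.dvd_prime Nat.prime_two).1 hd).resolve_left hlt
        have h5 := Cores.le_pCore hp
        rw [Cores.pCore_quotient_pCore, le_bot_iff, Subgroup.map_eq_bot_iff, QuotientGroup.ker_mk'] at h5
        exact hgQ (h5 hg)
      have hCT : C ⊔ TT = ⊤ := by
        rw [← Subgroup.index_eq_one]
        have hd1 : Q.relIndex C ∣ Q.relIndex (C ⊔ TT) :=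
          ⟨_, (Subgroup.relIndex_mul_relIndex Q C (C ⊔ TT) hQC le_sup_left).symm⟩
        have hd2 : Q.relIndex TT ∣ Q.relIndex (C ⊔ TT) :=
          ⟨_, (Subgroup.relIndex_mul_relIndex Q TT (C ⊔ TT) hQT le_sup_right).symm⟩
        rw [hrelQT] at hd2
        have hd3 : 2 * q ∣ Q.relIndex (C ⊔ TT) :=
          Nat.Coprime.mul_dvd_of_dvd_of_dvd ((Nat.coprime_primes Nat.prime_two hq).2 (Ne.symm hq2))
            hd2 (hqdvd.trans hd1)
        have hge : 2 * q ≤ Q.relIndex (C ⊔ TT) :=
          Nat.le_of_dvd (Nat.pos_of_ne_zero Subgroup.index_ne_zero_of_finite) hd3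
        have hpos : 0 < (C ⊔ TT).index := Nat.pos_of_ne_zero Subgroup.index_ne_zero_of_finite
        nlinarith
      have hle : C ⊔ TT ≤ Subgroup.centralizer ({z} : Set X) :=
        sup_le (fun a ha => Subgroup.mem_centralizer_singleton_iff.2
            ((Subgroup.mem_centralizer_iff.1 ha z (Subgroup.le_normalClosure hz)).symm))
          fun s hs => Subgroup.mem_centralizer_singleton_iff.2 (hz.2.2 s hs)
      have hx : x * z = z * x :=
        Subgroup.mem_centralizer_singleton_iff.1 (hle (hCT ▸ Subgroup.mem_top x))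
      rw [hx, mul_inv_cancel_right]; exact hz
    · obtain ⟨-, h2, h3⟩ := ha
      refine ⟨(φ a).2, ?_, fun t ht => ?_⟩
      · have : a * a = 1 := Subtype.ext h2
        simpa using congrArg (fun b : ↥TT => ((φ b : ↥TT) : X)) this
      · have h4 : φ.symm ⟨t, ht⟩ * a = a * φ.symm ⟨t, ht⟩ := Subtype.ext (h3 _ (φ.symm ⟨t, ht⟩).2)
        simpa using congrArg (fun b : ↥TT => ((φ b : ↥TT) : X)) h4
  -- an offender outside `Q`
  let EA : Subgroup X → Prop := fun A =>
    A ≤ TT ∧ (∀ a ∈ A, ∀ b ∈ A, a * b = b * a) ∧ ∀ a ∈ A, a * a = 1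
  have hVEA : EA V := ⟨hVQ.trans hQT, fun a ha b hb => hQV a (hVQ ha) b hb, hVsq⟩
  obtain ⟨A, ⟨hAT, hAc, hA2⟩, hmax, hAQ⟩ :
      ∃ A, EA A ∧ (∀ B, EA B → Nat.card B ≤ Nat.card A) ∧ ¬ A ≤ Q := by
    by_contra hcon
    push Not at hcon
    set M : Set (Subgroup X) := {A | EA A ∧ ∀ B, EA B → Nat.card B ≤ Nat.card A} with hM
    set J := sSup M with hJ
    have hEA : ∀ (A : Subgroup X) (ψ : ↥A →* X), Function.Injective ψ → (∀ a, ψ a ∈ TT) →
        A ∈ M → ψ.range ∈ M := by
      rintro A ψ hψ hψT ⟨⟨-, hAc, hA2⟩, hmax⟩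
      refine ⟨⟨?_, ?_, ?_⟩, fun B hB => ?_⟩
      · rintro _ ⟨a, rfl⟩; exact hψT a
      · rintro _ ⟨a, rfl⟩ _ ⟨b, rfl⟩
        rw [← map_mul, ← map_mul]; congr 1; exact Subtype.ext (hAc a a.2 b b.2)
      · rintro _ ⟨a, rfl⟩
        rw [← map_mul, show a * a = 1 from Subtype.ext (hA2 a a.2), map_one]
      · rw [← Nat.card_congr (MonoidHom.ofInjective hψ).toEquiv]; exact hmax B hB
    have hJT : J ≤ TT := sSup_le fun A hA => hA.1.1
    have hJn : J.Normal := by
      refine ⟨fun a ha x => ?_⟩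
      have : cj x J ≤ J := by
        rw [cj, Subgroup.map_le_iff_le_comap]
        refine sSup_le fun A hA => Subgroup.map_le_iff_le_comap.1 ?_
        refine le_sSup_of_le (hEA A ((MulAut.conj x).toMonoidHom.comp A.subtype)
          ((MulAut.conj x).injective.comp A.subtype_injective) (fun a => hQT
            ((inferInstance : Q.Normal).conj_mem _ (hcon A hA.1 hA.2 a.2) x)) hA) ?_
        rw [MonoidHom.range_comp, Subgroup.range_subtype]
      exact this (conj_mem_cj ha)
    have hbot := noinv J hJn hJT fun φ a ha => by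
      have key : J.subgroupOf TT ≤ (J.subgroupOf TT).comap φ.toMonoidHom := by
        intro b hb
        have hb' : (b : X) ∈ (sSup M : Subgroup X) := hb
        revert hb'
        suffices h : (sSup M : Subgroup X) ≤ ((J.subgroupOf TT).comap φ.toMonoidHom).map TT.subtype by
          intro hb'
          obtain ⟨b', hb'', he⟩ := h hb'
          rwa [Subtype.ext he] at hb''
        refine sSup_le fun A hA y hy => ?_
        refine ⟨⟨y, hA.1.1 hy⟩, ?_, rfl⟩
        refine le_sSup (hEA A (TT.subtype.comp (φ.toMonoidHom.comp (Subgroup.inclusion hA.1.1)))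
          (TT.subtype_injective.comp (φ.injective.comp (Subgroup.inclusion_injective _)))
          (fun a => Subtype.prop _) hA) ?_
        exact ⟨⟨y, hy⟩, rfl⟩
      exact key ha
    obtain ⟨A, hA, hmax⟩ : ∃ A, EA A ∧ ∀ B, EA B → Nat.card B ≤ Nat.card A := by
      haveI : Nonempty {A // EA A} := ⟨⟨V, hVEA⟩⟩
      obtain ⟨⟨A, hA⟩, hmax⟩ := Finite.exists_max fun A : {A // EA A} => Nat.card A.1
      exact ⟨A, hA, fun B hB => hmax ⟨B, hB⟩⟩
    have h1 : A = ⊥ := le_bot_iff.1 (hbot ▸ le_sSup (show A ∈ M from ⟨hA, hmax⟩))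
    have h2 := hmax V hVEA
    rw [h1, Subgroup.card_bot] at h2
    refine hZne (le_bot_iff.1 ?_)
    rw [← Subgroup.eq_bot_of_card_le _ h2]
    exact Subgroup.le_normalClosure
  -- `|V : V ∩ A| ≤ 2`
  have hind : (A ⊓ V).relIndex V ≤ 2 := by
    have hB : EA (A ⊓ Q ⊔ V) := by
      have h1 : A ⊓ Q ≤ Subgroup.centralizer (V : Set X) := fun a ha =>
        Subgroup.mem_centralizer_iff.2 fun v hv => (hQV a ha.2 v hv).symm
      haveI : V.Normal := hV ▸ Subgroup.normalClosure_normal
      have hmem : ∀ x ∈ A ⊓ Q ⊔ V, ∃ u ∈ A ⊓ Q, ∃ v ∈ V, u * v = x := fun x hx => by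
        rw [← SetLike.mem_coe, Subgroup.mul_normal (A ⊓ Q) V] at hx
        exact hx
      refine ⟨sup_le (inf_le_left.trans hAT) (hVQ.trans hQT), ?_, ?_⟩
      · rintro a ha b hb
        obtain ⟨u, hu, v, hv, rfl⟩ := hmem a ha
        obtain ⟨u', hu', v', hv', rfl⟩ := hmem b hb
        have e1 : Commute u u' := hAc u hu.1 u' hu'.1
        have e2 : Commute u v' := hQV u hu.2 v' hv'
        have e3 : Commute v u' := (hQV u' hu'.2 v hv).symm
        have e4 : Commute v v' := hQV v (hVQ hv) v' hv'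
        exact ((e1.mul_right e2).mul_left (e3.mul_right e4)).eq
      · rintro a ha
        obtain ⟨u, hu, v, hv, rfl⟩ := hmem a ha
        rw [mul_assoc, ← mul_assoc v, ← hQV u hu.2 v hv, mul_assoc u v, hVsq v hv, mul_one, hA2 u hu.1]
    haveI : V.Normal := hV ▸ Subgroup.normalClosure_normal
    have h1 := hmax _ hB
    have e1 : V.relIndex (A ⊓ Q ⊔ V) = V.relIndex (A ⊓ Q) := Subgroup.relIndex_sup_right _ _
    have e2 : Nat.card ↥(A ⊓ Q ⊔ V) = Nat.card ↥V * V.relIndex (A ⊓ Q) := by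
      rw [← e1, ← Subgroup.relIndex_bot_left, ← Subgroup.relIndex_bot_left,
        Subgroup.relIndex_mul_relIndex _ _ _ bot_le le_sup_right]
    have e3 : Nat.card ↥(A ⊓ Q) = Nat.card ↥(A ⊓ V) * V.relIndex (A ⊓ Q) := by
      have hle : A ⊓ V ≤ A ⊓ Q := inf_le_inf le_rfl hVQ
      rw [← Subgroup.relIndex_bot_left, ← Subgroup.relIndex_bot_left,
        ← Subgroup.inf_relIndex_right V (A ⊓ Q),
        show V ⊓ (A ⊓ Q) = A ⊓ V from le_antisymm (le_inf (inf_le_right.trans inf_le_left) inf_le_left)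
          (le_inf inf_le_right hle),
        Subgroup.relIndex_mul_relIndex _ _ _ bot_le hle]
    have e4 : Nat.card ↥V = Nat.card ↥(A ⊓ V) * (A ⊓ V).relIndex V := by
      rw [← Subgroup.relIndex_bot_left, ← Subgroup.relIndex_bot_left,
        Subgroup.relIndex_mul_relIndex _ _ _ bot_le inf_le_right]
    have e5 : Nat.card ↥A = Nat.card ↥(A ⊓ Q) * (A ⊓ Q).relIndex A := by
      rw [← Subgroup.relIndex_bot_left, ← Subgroup.relIndex_bot_left,
        Subgroup.relIndex_mul_relIndex _ _ _ bot_le inf_le_left]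
    rw [e2, e4, e5, e3, mul_assoc, mul_assoc, mul_comm (V.relIndex (A ⊓ Q))] at h1
    refine (Nat.le_of_mul_le_mul_right (Nat.le_of_mul_le_mul_left h1 Nat.card_pos)
      (Nat.pos_of_ne_zero Subgroup.index_ne_zero_of_finite)).trans ?_
    rw [Subgroup.inf_relIndex_left, ← hrelQT]
    exact Subgroup.relIndex_le_of_le_right hAT Subgroup.index_ne_zero_of_finite
  obtain ⟨a, ha, haQ⟩ := SetLike.not_le_iff_exists.1 hAQ
  obtain ⟨g, hg⟩ := hgen a (hAT ha) haQ
  set a' := g * a * g⁻¹ with ha'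
  haveI : V.Normal := hV ▸ Subgroup.normalClosure_normal
  have hVg : cj g V = V := by
    ext v
    rw [mem_cj]
    exact ⟨fun h => by simpa [mul_assoc] using (inferInstance : V.Normal).conj_mem _ h g,
      fun h => by simpa [mul_assoc] using (inferInstance : V.Normal).conj_mem _ h g⁻¹⟩
  set W := (A ⊓ V) ⊓ cj g (A ⊓ V) with hW
  have hWidx : W.relIndex V ≤ 4 := by
    refine (Subgroup.relIndex_inf_le).trans ?_
    have h2 : (cj g (A ⊓ V)).relIndex V = (A ⊓ V).relIndex V := by
      refine (congrArg ((cj g (A ⊓ V)).relIndex) hVg.symm).trans ?_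
      exact Subgroup.relIndex_map_map_of_injective (f := (MulAut.conj g).toMonoidHom) _ _
        (MulAut.conj g).injective
    rw [h2]
    exact Nat.mul_le_mul hind hind
  have hcW : ∀ w ∈ W, a * a' * w = w * (a * a') := by
    intro w hw
    have h1 : Commute a w := hAc a ha w hw.1.1
    have h2 : Commute a' w := by
      have h3 : Commute a (g⁻¹ * w * g) := hAc a ha _ (mem_cj.1 hw.2).1
      have := h3.map (MulAut.conj g).toMonoidHom
      simpa [ha', mul_assoc] using this
    exact (h1.mul_left h2).eq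
  have ha'2 : a' * a' ∈ Q := by
    rw [ha', show g * a * g⁻¹ * (g * a * g⁻¹) = g * (a * a) * g⁻¹ by group, hA2 a ha]
    simp
  have ha'Q : a' ∉ Q := fun h => haQ (by
    simpa [ha', mul_assoc] using (inferInstance : Q.Normal).conj_mem _ h g⁻¹)
  obtain ⟨k, hk, hkQ⟩ := hodd_part _ (hrot a a' haQ ha'Q (by rw [hA2 a ha]; exact one_mem _) ha'2 hg.symm)
  have hy := five_step hq h5 hk V W hVsq (inf_le_left.trans inf_le_right) hWidx fun w hw =>
    (Commute.pow_left (hcW w hw : Commute (a * a') w) k).eq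
  exact hkQ (hcent _ (Subgroup.mem_centralizer_iff.2 fun v hv => (hy v hv).symm))

end Cfsg.Agent.Lib.PushUp2
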