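import Cfsg.Agent.Lib.SL2Module.Order
import Mathlib.Tactic.IntervalCases

/-!
`|V : C_V(a)| ≥ 2ⁿ` when `G / C_G(V) ≅ SL₂(2ⁿ)` and `a` maps to an involution.
-/

set_option autoImplicit false

namespace Cfsg.Agent.Lib.PushUp2

open Matrix
open Cfsg.Agent.Lib.PLocal.SLTwo (up)

/-- Index of the centralizer of an involution. -/
theorem index_le {G : Type*} [Group G] [Finite G] (Q V : Subgroup G) [Q.Normal] [V.Normal]
    (hV : ∀ v ∈ V, v * v = 1) (hC : ∀ g, g ∈ Subgroup.centralizer (V : Set G) ↔ g ∈ Q)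
    {F : Type*} [Field F] [Fintype F] [CharP F 2] {n : ℕ} (hF : Fintype.card F = 2 ^ n)
    (e : G ⧸ Q ≃* SpecialLinearGroup (Fin 2) F) {a : G} {t₀ : F}
    (ha : e (QuotientGroup.mk' Q a) = up t₀) (ht₀0 : t₀ ≠ 0) :
    2 ^ n ≤ (V ⊓ Subgroup.centralizer ({a} : Set G)).relIndex V := by
  classical
  haveI : Fact (Nat.Prime 2) := ⟨Nat.prime_two⟩
  set Ca := V ⊓ Subgroup.centralizer ({a} : Set G) with hCa
  have hp : Nat.Prime 2 := Nat.prime_two
  have hVp : IsPGroup 2 ↥V := fun v => ⟨1, by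
    rw [pow_one]; exact Subtype.ext (by rw [Subgroup.coe_pow, pow_two]; exact hV v v.2)⟩
  have hne : Ca.relIndex V ≠ 1 := fun h1 => by
    have h2 : a ∈ Q := (hC a).1 (Subgroup.mem_centralizer_iff.2 fun v hv =>
      Subgroup.mem_centralizer_singleton_iff.1 ((Subgroup.relIndex_eq_one.1 h1) hv).2)
    rw [QuotientGroup.mk'_apply, (QuotientGroup.eq_one_iff a).2 h2, map_one] at ha
    refine ht₀0 ?_
    have := congrArg (fun M : SpecialLinearGroup (Fin 2) F => M.1 0 1) ha
    simpa [up] using this.symm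
  obtain ⟨j, hj⟩ : ∃ j, Ca.relIndex V = 2 ^ j := hVp.index _
  have hj0 : j ≠ 0 := by rintro rfl; exact hne (by simpa using hj)
  rw [hj]
  refine Nat.pow_le_pow_right hp.pos ?_
  rcases Nat.lt_or_ge n 2 with hn | hn
  · omega
  -- a prime power `N` with `2` of order `2 n` modulo `N`
  obtain ⟨r, k, hr, hr2, hord⟩ : ∃ r k : ℕ, r.Prime ∧ r ≠ 2 ∧ orderOf ((2 : ℕ) : ZMod (r ^ (k + 1))) = 2 * n := by
    by_cases hex : (2 : ℕ) = 2 ∧ 2 * n = 6
    · refine ⟨3, 1, Nat.prime_three, by norm_num, ?_⟩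
      rw [hex.2]
      refine (orderOf_eq_iff (by norm_num)).2 ⟨by decide, fun m hm hm0 => ?_⟩
      interval_cases m <;> decide
    · obtain ⟨r, hr, hro⟩ := NumberTheory.exists_primitive_prime (q := 2) (n := 2 * n)
        hp.two_le (by omega) hex (by omega)
      refine ⟨r, 0, hr, fun h => ?_, ?_⟩
      · subst h
        have hm : ((2 : ℕ) : ZMod 2) = 0 := ZMod.natCast_self 2
        rw [hm, orderOf_zero] at hro
        omega
      · rw [zero_add, pow_one]; exact hro
  set N := r ^ (k + 1) with hN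
  have hNodd : Odd N := (hr.odd_of_ne_two hr2).pow
  have hrp : r ≠ 2 := hr2
  have hNdvd : N ∣ Fintype.card F + 1 := by
    have h1 : (((2 : ℕ) : ZMod N)) ^ (2 * n) = 1 := hord ▸ pow_orderOf_eq_one _
    have h2 : (((2 : ℕ) : ZMod N)) ^ n ≠ 1 := fun h => by
      have := Nat.le_of_dvd (by omega) (hord ▸ orderOf_dvd_of_pow_eq_one h)
      omega
    have hpn : 1 ≤ 2 ^ n := Nat.one_le_pow _ _ hp.pos
    have h3 : N ∣ (2 ^ n - 1) * (2 ^ n + 1) := by
      rw [← ZMod.natCast_eq_zero_iff, Nat.cast_mul, Nat.cast_sub hpn]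
      push_cast
      linear_combination h1
    have h4 : ¬ N ∣ 2 ^ n - 1 := fun h => h2 (by
      have := (ZMod.natCast_eq_zero_iff _ _).2 h
      rw [Nat.cast_sub hpn] at this
      push_cast at this
      linear_combination this)
    rw [hF]
    have h5 : ¬ (r ∣ 2 ^ n - 1 ∧ r ∣ 2 ^ n + 1) := fun h => by
      have : r ∣ 2 := by
        have := Nat.dvd_sub h.2 h.1
        rwa [show 2 ^ n + 1 - (2 ^ n - 1) = 2 by omega] at this
      exact hr2 ((Nat.prime_dvd_prime_iff_eq hr Nat.prime_two).1 this)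
    by_cases h6 : r ∣ 2 ^ n - 1
    · exfalso
      apply h4
      exact ((Nat.Coprime.pow_left _ (hr.coprime_iff_not_dvd.2 fun h => h5 ⟨h6, h⟩))).dvd_of_dvd_mul_right h3
    · exact ((Nat.Coprime.pow_left _ (hr.coprime_iff_not_dvd.2 h6))).dvd_of_dvd_mul_left h3
  obtain ⟨c, hc⟩ := SL2Module.exists_product ht₀0 hNodd (Nat.one_lt_pow (by omega) hr.one_lt) hNdvd
  obtain ⟨g, hg⟩ := QuotientGroup.mk'_surjective Q (e.symm c)
  set l' : G := g * a * g⁻¹ with hl'
  set x : G := a * l' with hx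
  set m := orderOf (QuotientGroup.mk' Q x) with hm
  have hxN : N ∣ m := by
    have hg' : e (QuotientGroup.mk' Q g) = c := by rw [hg, e.apply_symm_apply]
    rw [hm, ← e.orderOf_eq, hx, hl']
    simp only [map_mul, map_inv, hg', ha]
    exact hc
  set y : G := x ^ (m / N) with hy
  have hyo : orderOf (QuotientGroup.mk' Q y) = N := by
    rw [hy, map_pow]; exact orderOf_pow_orderOf_div (orderOf_pos _).ne' hxN
  have hmem : ∀ s, y ^ s ∈ Q → N ∣ s := fun s hs => by
    rw [← hyo]
    exact orderOf_dvd_of_pow_eq_one (by rw [← map_pow]; exact (QuotientGroup.eq_one_iff _).2 hs)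
  set Cb := V ⊓ Subgroup.centralizer ({l'} : Set G) with hCb
  have hW : Ca ⊓ Cb ≤ Subgroup.centralizer ({y} : Set G) := by
    intro w hw
    rw [Subgroup.mem_centralizer_singleton_iff]
    have h1 : Commute w a := Subgroup.mem_centralizer_singleton_iff.1 hw.1.2
    have h2 : Commute w l' := Subgroup.mem_centralizer_singleton_iff.1 hw.2.2
    rw [hy, hx]
    exact ((h1.mul_right h2).pow_right _).eq
  have hbig : 2 ^ (2 * n) ≤ (Ca ⊓ Cb).relIndex V := by
    refine SL2Module.pow_le_relIndex (k := k) hr hrp V hVp hord ?_ ?_ ?_ _ hW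
    · rw [Subgroup.normalizer_eq_top]; trivial
    · rw [hC, ← hN, ← QuotientGroup.eq_one_iff]
      show QuotientGroup.mk' Q (y ^ N) = 1
      rw [map_pow, ← hyo, pow_orderOf_eq_one]
    · rw [hC]
      intro h
      have h2 := Nat.le_of_dvd (pow_pos hr.pos _) (hmem _ h)
      rw [hN, pow_succ] at h2
      have := Nat.mul_le_mul_left (r ^ k) hr.two_le
      have := pow_pos hr.pos k
      omega
  have hCb' : Cb.relIndex V = Ca.relIndex V := by
    have hVg : V.map (MulAut.conj g).toMonoidHom = V := by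
      ext v
      constructor
      · rintro ⟨u, hu, rfl⟩
        exact Subgroup.Normal.conj_mem inferInstance u hu g
      · intro hv
        exact ⟨g⁻¹ * v * g, by simpa using Subgroup.Normal.conj_mem inferInstance v hv g⁻¹,
          by simp [mul_assoc]⟩
    have hCg : Ca.map (MulAut.conj g).toMonoidHom = Cb := by
      rw [hCa, Subgroup.map_inf _ _ _ (MulAut.conj g).injective, hVg, hCb]
      congr 1
      ext v
      rw [Subgroup.mem_centralizer_singleton_iff, hl']
      constructor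
      · rintro ⟨u, hu, rfl⟩
        have hu' := Subgroup.mem_centralizer_singleton_iff.1 hu
        calc g * u * g⁻¹ * (g * a * g⁻¹) = g * (u * a) * g⁻¹ := by group
          _ = g * a * g⁻¹ * (g * u * g⁻¹) := by rw [hu']; group
      · intro hv
        refine ⟨g⁻¹ * v * g, Subgroup.mem_centralizer_singleton_iff.2 ?_, by simp [mul_assoc]⟩
        calc g⁻¹ * v * g * a = g⁻¹ * (v * (g * a * g⁻¹)) * g := by group
          _ = a * (g⁻¹ * v * g) := by rw [hv]; group
    rw [← hCg]
    conv_lhs => rw [← hVg]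
    exact Subgroup.relIndex_map_map_of_injective _ _ (MulAut.conj g).injective
  have h1 : 2 ^ (2 * n) ≤ 2 ^ j * 2 ^ j := by
    calc 2 ^ (2 * n) ≤ (Ca ⊓ Cb).relIndex V := hbig
      _ ≤ Ca.relIndex V * Cb.relIndex V := Subgroup.relIndex_inf_le
      _ = 2 ^ j * 2 ^ j := by rw [hCb', hj]
  rw [← pow_add] at h1
  have := (Nat.pow_le_pow_iff_right hp.one_lt).1 h1
  omega

end Cfsg.Agent.Lib.PushUp2
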