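import Cfsg.Agent.Lib.PushUp2.Quot
import Cfsg.Agent.Lib.PushUp2.Index
import Cfsg.Agent.Lib.Cores.Basic
import Cfsg.Prelude.Def_Transfer

/-!
The facts about `X`, `X / O₂(X) ≅ SL₂(2ⁿ)`, no nontrivial characteristic subgroup of `T` normal.
-/

set_option autoImplicit false

namespace Cfsg.Agent.Lib.PushUp2

open Matrix
open scoped commutatorElement
open Cfsg.Agent.Lib.PLocal.SLTwo (up up_zero)

/-- The hypotheses. -/
structure Ctx (X : Type*) [Group X] [Finite X] (F : Type*) [Field F] [Fintype F] [CharP F 2] where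
  T : Sylow 2 X
  hX : Subgroup.centralizer (Cfsg.pCore 2 X : Set X) ≤ Cfsg.pCore 2 X
  hT : ∀ C : Subgroup ↥(T : Subgroup X), C.Characteristic → C ≠ ⊥ →
      ¬ ((C.map (T : Subgroup X).subtype).Normal)
  n : ℕ
  hn : 1 ≤ n
  hF : Fintype.card F = 2 ^ n
  e : X ⧸ Cfsg.pCore 2 X ≃* SpecialLinearGroup (Fin 2) F
  hS : ∀ l, l ∈ (T : Subgroup X).map (QuotientGroup.mk' (Cfsg.pCore 2 X)) ↔ ∃ x, e l = up x

namespace Ctx

variable {X : Type*} [Group X] [Finite X] {F : Type*} [Field F] [Fintype F] [CharP F 2]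
variable (c : Ctx X F)

local notation "Q" => Cfsg.pCore 2 X
local notation "π" => QuotientGroup.mk' (Cfsg.pCore 2 X)

/-- The Sylow subgroup as a subgroup. -/
abbrev TT : Subgroup X := (c.T : Subgroup X)

/-- `Ω₁(Z(T))`. -/
def Z : Subgroup X where
  carrier := {z | z ∈ c.TT ∧ z * z = 1 ∧ ∀ t ∈ c.TT, t * z = z * t}
  one_mem' := ⟨one_mem _, one_mul 1, fun t _ => by rw [mul_one, one_mul]⟩
  mul_mem' := by
    rintro a b ⟨ha, ha2, hac⟩ ⟨hb, hb2, hbc⟩
    refine ⟨mul_mem ha hb, ?_, fun t ht => by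
      rw [← mul_assoc, hac t ht, mul_assoc, hbc t ht, mul_assoc]⟩
    rw [mul_assoc, ← mul_assoc b, hac b hb, mul_assoc a, hb2, mul_one, ha2]
  inv_mem' := by
    rintro a ⟨ha, ha2, hac⟩
    rw [inv_eq_of_mul_eq_one_left ha2]
    exact ⟨ha, ha2, hac⟩

/-- `⟨Z^X⟩`. -/
def V : Subgroup X := Subgroup.normalClosure (c.Z : Set X)

instance V_normal : c.V.Normal := Subgroup.normalClosure_normal

/-- `C_V(X)`. -/
def K : Subgroup X := c.V ⊓ Subgroup.center X

theorem mem_Z {z : X} : z ∈ c.Z ↔ z ∈ c.TT ∧ z * z = 1 ∧ ∀ t ∈ c.TT, t * z = z * t := Iff.rfl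

theorem isPGroup_T : IsPGroup 2 ↥c.TT := c.T.isPGroup'

theorem Q_le_T : Q ≤ c.TT := Cores.pCore_le_sylow c.T

theorem ker_π : (π).ker = Q := QuotientGroup.ker_mk' _

theorem comap_map {H : Subgroup X} (h : Q ≤ H) : (H.map π).comap π = H :=
  Subgroup.comap_map_eq_self (by rw [ker_π]; exact h)

theorem mem_T_iff {x : X} : x ∈ c.TT ↔ π x ∈ c.TT.map π :=
  ⟨Subgroup.mem_map_of_mem _, fun h => by rw [← comap_map c.Q_le_T]; exact h⟩

theorem map_cj (x : X) (H : Subgroup X) : (cj x H).map π = cj (π x) (H.map π) := by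
  rw [cj, cj, Subgroup.map_map, Subgroup.map_map]
  congr 1

theorem cj_ne {x : X} (h : cj x c.TT ≠ c.TT) : cj (π x) (c.TT.map π) ≠ c.TT.map π := by
  intro h1
  apply h
  have hQ : Q ≤ cj x c.TT := fun a ha => mem_cj.2 (c.Q_le_T (by
    simpa using (inferInstance : (Q).Normal).conj_mem a ha x⁻¹))
  rw [← comap_map hQ, map_cj, h1, comap_map c.Q_le_T]

theorem gen {x : X} (h : cj x c.TT ≠ c.TT) : c.TT ⊔ cj x c.TT = ⊤ := by
  rw [← comap_map (H := c.TT ⊔ cj x c.TT) (c.Q_le_T.trans le_sup_left), Subgroup.map_sup, map_cj,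
    sl_gen c.hS (c.cj_ne h), Subgroup.comap_top]

theorem exists_other : ∃ x, cj x c.TT ≠ c.TT := by
  obtain ⟨g, hg⟩ := sl_exists_other c.hS
  obtain ⟨x, rfl⟩ := QuotientGroup.mk'_surjective _ g
  exact ⟨x, fun h => hg (by
    show cj (π x) (c.TT.map π) = c.TT.map π
    rw [← map_cj, h])⟩

theorem image_ne {t : X} (htQ : t ∉ Q) : π t ≠ 1 := fun h =>
  htQ ((QuotientGroup.eq_one_iff t).1 h)

theorem no_norm {t x : X} (ht : t ∈ c.TT) (htQ : t ∉ Q) (h : cj x c.TT ≠ c.TT) :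
    cj t (cj x c.TT) ≠ cj x c.TT := fun he =>
  sl_no_norm c.hS (c.cj_ne h) (Subgroup.mem_map_of_mem _ ht) (image_ne htQ)
    (by rw [← map_cj, ← map_cj, he])

theorem card_Tbar : Nat.card ↥(c.TT.map π) = 2 ^ c.n := by
  rw [← c.hF]; exact sl_card c.hS

theorem relIndex_QT : (Q).relIndex c.TT = 2 ^ c.n := by
  rw [← c.card_Tbar, ← Subgroup.relIndex_ker, ker_π]

/-- A nontrivial invariant subgroup of `T` is not normal. -/
theorem eq_bot_of_inv (C : Subgroup X) [C.Normal] (hC : C ≤ c.TT)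
    (hinv : ∀ φ : ↥c.TT ≃* ↥c.TT, ∀ a : ↥c.TT, (a : X) ∈ C → (φ a : X) ∈ C) : C = ⊥ := by
  by_contra hne
  refine c.hT (C.subgroupOf c.TT) ?_ ?_ ?_
  · exact Subgroup.characteristic_iff_le_comap.2 fun φ a ha => hinv φ a ha
  · intro h
    rw [Subgroup.subgroupOf_eq_bot, disjoint_iff, inf_eq_left.2 hC] at h
    exact hne h
  · show ((C.subgroupOf c.TT).map c.TT.subtype).Normal
    rw [Subgroup.map_subgroupOf_eq_of_le hC]
    infer_instance

theorem Z_inv (φ : ↥c.TT ≃* ↥c.TT) (a : ↥c.TT) (ha : (a : X) ∈ c.Z) : (φ a : X) ∈ c.Z := by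
  obtain ⟨-, h2, h3⟩ := ha
  refine ⟨(φ a).2, ?_, fun t ht => ?_⟩
  · have : a * a = 1 := Subtype.ext h2
    have := congrArg (fun b : ↥c.TT => ((φ b : ↥c.TT) : X)) this
    simpa using this
  · have h4 : φ.symm ⟨t, ht⟩ * a = a * φ.symm ⟨t, ht⟩ := Subtype.ext (h3 _ (φ.symm ⟨t, ht⟩).2)
    have := congrArg (fun b : ↥c.TT => ((φ b : ↥c.TT) : X)) h4
    simpa using this

theorem T_ne : c.TT ≠ ⊥ := fun h => by
  have h1 := c.card_Tbar
  rw [h, Subgroup.map_bot, Subgroup.card_bot] at h1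
  exact absurd h1.symm (Nat.one_lt_two_pow (by have := c.hn; omega)).ne'

theorem Z_ne : c.Z ≠ ⊥ := fun h => by
  haveI : Fact (Nat.Prime 2) := ⟨Nat.prime_two⟩
  haveI : Nontrivial ↥c.TT := (Subgroup.nontrivial_iff_ne_bot _).2 c.T_ne
  haveI := c.isPGroup_T.center_nontrivial
  obtain ⟨k, hk⟩ := IsPGroup.iff_card.1 (c.isPGroup_T.to_subgroup (Subgroup.center ↥c.TT))
  have h2 : 2 ∣ Nat.card (Subgroup.center ↥c.TT) := by
    rw [hk]
    refine dvd_pow_self 2 fun h0 => ?_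
    rw [h0, pow_zero] at hk
    exact absurd hk Finite.one_lt_card.ne'
  obtain ⟨z, hz⟩ := exists_prime_orderOf_dvd_card' 2 h2
  have hz2 : z * z = 1 := by rw [← pow_two, ← hz, pow_orderOf_eq_one]
  have hmem : ((z : ↥c.TT) : X) ∈ c.Z := ⟨(z : ↥c.TT).2,
    congrArg (fun w : Subgroup.center ↥c.TT => ((w : ↥c.TT) : X)) hz2,
    fun t ht => congrArg Subtype.val (Subgroup.mem_center_iff.1 z.2 ⟨t, ht⟩)⟩
  rw [h, Subgroup.mem_bot] at hmem
  rw [show z = 1 from Subtype.ext (Subtype.ext hmem), orderOf_one] at hz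
  omega

theorem Z_le_T : c.Z ≤ c.TT := fun _ h => h.1

theorem Z_le_Q : c.Z ≤ Q := fun z hz => c.hX (Subgroup.mem_centralizer_iff.2 fun a ha =>
  hz.2.2 a (c.Q_le_T ha))

/-- The normal elementary abelian subgroup `Ω₁(Z(Q))`. -/
def W : Subgroup X where
  carrier := {v | v ∈ Q ∧ v * v = 1 ∧ ∀ a ∈ Q, a * v = v * a}
  one_mem' := ⟨one_mem _, one_mul 1, fun t _ => by rw [mul_one, one_mul]⟩
  mul_mem' := by
    rintro a b ⟨ha, ha2, hac⟩ ⟨hb, hb2, hbc⟩
    refine ⟨mul_mem ha hb, ?_, fun t ht => by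
      rw [← mul_assoc, hac t ht, mul_assoc, hbc t ht, mul_assoc]⟩
    rw [mul_assoc, ← mul_assoc b, hac b hb, mul_assoc a, hb2, mul_one, ha2]
  inv_mem' := by
    rintro a ⟨ha, ha2, hac⟩
    rw [inv_eq_of_mul_eq_one_left ha2]
    exact ⟨ha, ha2, hac⟩

theorem V_le_W : c.V ≤ W (X := X) := by
  haveI : (W (X := X)).Normal := ⟨fun v ⟨hv, hv2, hvc⟩ g => ⟨(inferInstance : (Q).Normal).conj_mem v hv g,
    by rw [show g * v * g⁻¹ * (g * v * g⁻¹) = g * (v * v) * g⁻¹ by group, hv2]; group,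
    fun a ha => by
      have h := hvc (g⁻¹ * a * g) (by simpa using (inferInstance : (Q).Normal).conj_mem a ha g⁻¹)
      calc a * (g * v * g⁻¹) = g * ((g⁻¹ * a * g) * v) * g⁻¹ := by group
        _ = g * (v * (g⁻¹ * a * g)) * g⁻¹ := by rw [h]
        _ = g * v * g⁻¹ * a := by group⟩⟩
  exact Subgroup.normalClosure_le_normal fun z hz =>
    ⟨c.Z_le_Q hz, hz.2.1, fun a ha => hz.2.2 a (c.Q_le_T ha)⟩

theorem V_le_Q : c.V ≤ Q := fun _ h => (c.V_le_W h).1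
theorem V_sq {v : X} (h : v ∈ c.V) : v * v = 1 := (c.V_le_W h).2.1
theorem Q_cent {a v : X} (ha : a ∈ Q) (hv : v ∈ c.V) : a * v = v * a := (c.V_le_W hv).2.2 a ha
theorem Z_le_V : c.Z ≤ c.V := Subgroup.le_normalClosure
theorem V_le_T : c.V ≤ c.TT := c.V_le_Q.trans c.Q_le_T

theorem V_ne : c.V ≠ ⊥ := fun h => c.Z_ne (le_bot_iff.1 (h ▸ c.Z_le_V))

theorem V_comm {u v : X} (hu : u ∈ c.V) (hv : v ∈ c.V) : u * v = v * u :=
  c.Q_cent (c.V_le_Q hu) hv

theorem Z_not_normal : ¬ c.Z.Normal := fun h => c.Z_ne (c.eq_bot_of_inv c.Z c.Z_le_T c.Z_inv)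

/-- A normal subgroup outside `Q` covers `X` over `T`. -/
theorem normal_sup {C : Subgroup X} [C.Normal] (h : ¬ C ≤ Q) : C ⊔ c.TT = ⊤ := by
  haveI : (C.map π).Normal := Subgroup.Normal.map inferInstance _ (QuotientGroup.mk'_surjective _)
  have h1 : C.map π ≠ ⊥ := fun h0 => h (by
    rw [← ker_π (X := X)]; exact (Subgroup.map_eq_bot_iff _).1 h0)
  rw [← comap_map (H := C ⊔ c.TT) (c.Q_le_T.trans le_sup_right), Subgroup.map_sup,
    sl_normal c.hS (C.map π) h1, Subgroup.comap_top]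

theorem cent_V (g : X) : g ∈ Subgroup.centralizer (c.V : Set X) ↔ g ∈ Q := by
  refine ⟨fun hg => by_contra fun hgQ => c.Z_not_normal ⟨fun z hz x => ?_⟩, fun h =>
    Subgroup.mem_centralizer_iff.2 fun v hv => (c.Q_cent h hv).symm⟩
  have htop := c.normal_sup (C := Subgroup.centralizer (c.V : Set X)) fun h => hgQ (h hg)
  have hle : Subgroup.centralizer (c.V : Set X) ⊔ c.TT ≤ Subgroup.centralizer ({z} : Set X) :=
    sup_le (fun a ha => Subgroup.mem_centralizer_singleton_iff.2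
        ((Subgroup.mem_centralizer_iff.1 ha z (c.Z_le_V hz)).symm))
      fun t ht => Subgroup.mem_centralizer_singleton_iff.2 (hz.2.2 t ht)
  have hx : x * z = z * x :=
    Subgroup.mem_centralizer_singleton_iff.1 (hle (htop ▸ Subgroup.mem_top x))
  rw [hx, mul_inv_cancel_right]
  exact hz

theorem mem_Q {t : X} (h : ∀ v ∈ c.V, t * v = v * t) : t ∈ Q :=
  (c.cent_V t).1 (Subgroup.mem_centralizer_iff.2 fun v hv => (h v hv).symm)

/-- Elementary abelian subgroups of `T`. -/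
def IsEA (A : Subgroup X) : Prop :=
  A ≤ c.TT ∧ (∀ a ∈ A, ∀ b ∈ A, a * b = b * a) ∧ ∀ a ∈ A, a * a = 1

theorem exists_A : ∃ A, c.IsEA A ∧ (∀ B, c.IsEA B → Nat.card B ≤ Nat.card A) ∧ ¬ A ≤ Q := by
  by_contra hcon
  push Not at hcon
  set M : Set (Subgroup X) := {A | c.IsEA A ∧ ∀ B, c.IsEA B → Nat.card B ≤ Nat.card A} with hM
  set J := sSup M with hJ
  have hEA : ∀ (A : Subgroup X) (ψ : ↥A →* X), Function.Injective ψ → (∀ a, ψ a ∈ c.TT) →
      A ∈ M → ψ.range ∈ M := by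
    rintro A ψ hψ hψT ⟨⟨-, hAc, hA2⟩, hmax⟩
    refine ⟨⟨?_, ?_, ?_⟩, fun B hB => ?_⟩
    · rintro _ ⟨a, rfl⟩; exact hψT a
    · rintro _ ⟨a, rfl⟩ _ ⟨b, rfl⟩
      rw [← map_mul, ← map_mul]; congr 1; exact Subtype.ext (hAc a a.2 b b.2)
    · rintro _ ⟨a, rfl⟩
      rw [← map_mul, show a * a = 1 from Subtype.ext (hA2 a a.2), map_one]
    · rw [← Nat.card_congr (MonoidHom.ofInjective hψ).toEquiv]; exact hmax B hB
  have hJT : J ≤ c.TT := sSup_le fun A hA => hA.1.1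
  haveI : J.Normal := by
    refine ⟨fun a ha x => ?_⟩
    have : cj x J ≤ J := by
      rw [cj, Subgroup.map_le_iff_le_comap]
      refine sSup_le fun A hA => Subgroup.map_le_iff_le_comap.1 ?_
      refine le_sSup_of_le (hEA A ((MulAut.conj x).toMonoidHom.comp A.subtype)
        ((MulAut.conj x).injective.comp A.subtype_injective) (fun a => c.Q_le_T
          ((inferInstance : (Q).Normal).conj_mem _ (hcon A hA.1 hA.2 a.2) x)) hA) ?_
      rw [MonoidHom.range_comp, Subgroup.range_subtype]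
    exact this (conj_mem_cj ha)
  have hbot := c.eq_bot_of_inv J hJT fun φ a ha => by
    have key : J.subgroupOf c.TT ≤ (J.subgroupOf c.TT).comap φ.toMonoidHom := by
      intro b hb
      have hb' : (b : X) ∈ (sSup M : Subgroup X) := hb
      revert hb'
      suffices h : (sSup M : Subgroup X) ≤ ((J.subgroupOf c.TT).comap φ.toMonoidHom).map c.TT.subtype by
        intro hb'
        obtain ⟨b', hb'', he⟩ := h hb'
        rwa [Subtype.ext he] at hb''
      refine sSup_le fun A hA y hy => ?_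
      refine ⟨⟨y, hA.1.1 hy⟩, ?_, rfl⟩
      refine le_sSup (hEA A (c.TT.subtype.comp (φ.toMonoidHom.comp (Subgroup.inclusion hA.1.1)))
        (c.TT.subtype_injective.comp (φ.injective.comp (Subgroup.inclusion_injective _)))
        (fun a => Subtype.prop _) hA) ?_
      exact ⟨⟨y, hy⟩, rfl⟩
    exact key ha
  obtain ⟨A, hA, hmax⟩ : ∃ A, c.IsEA A ∧ ∀ B, c.IsEA B → Nat.card B ≤ Nat.card A := by
    haveI : Nonempty {A // c.IsEA A} := ⟨⟨⊥, bot_le, by simp, by simp⟩⟩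
    obtain ⟨⟨A, hA⟩, hmax⟩ := Finite.exists_max fun A : {A // c.IsEA A} => Nat.card A.1
    exact ⟨A, hA, fun B hB => hmax ⟨B, hB⟩⟩
  have h1 : A = ⊥ := le_bot_iff.1 (hbot ▸ le_sSup (show A ∈ M from ⟨hA, hmax⟩))
  have h2 := hmax c.V ⟨c.V_le_T, fun u hu v hv => c.V_comm hu hv, fun v hv => c.V_sq hv⟩
  rw [h1, Subgroup.card_bot] at h2
  exact c.V_ne (Subgroup.eq_bot_of_card_le _ h2)

theorem quot_up {t : X} (ht : t ∈ c.TT) (htQ : t ∉ Q) : ∃ t₀, t₀ ≠ 0 ∧ c.e (π t) = up t₀ := by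
  obtain ⟨t₀, h⟩ := (c.hS _).1 (Subgroup.mem_map_of_mem _ ht)
  refine ⟨t₀, fun h0 => image_ne htQ ?_, h⟩
  apply c.e.injective
  rw [h, h0, up_zero, map_one]

/-- Everything that follows from the Thompson argument. -/
theorem offender : ∃ A, c.IsEA A ∧ Q ⊔ A = c.TT ∧ c.Z.relIndex c.V = 2 ^ c.n ∧
    ∀ a ∈ A, a ∉ Q → ∀ v ∈ c.V, a * v = v * a → v ∈ c.Z := by
  obtain ⟨A, hA, hmax, hAQ⟩ := c.exists_A
  obtain ⟨hAT, hAc, hA2⟩ := hA
  have hEAB : c.IsEA (A ⊓ Q ⊔ c.V) := by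
    have hcomm : ∀ a ∈ A ⊓ Q ⊔ c.V, ∀ b ∈ A ⊓ Q ⊔ c.V, a * b = b * a := by
      have h1 : A ⊓ Q ⊔ c.V ≤ Subgroup.centralizer ((A ⊓ Q : Subgroup X) : Set X) := sup_le
        (fun a ha => Subgroup.mem_centralizer_iff.2 fun b hb => hAc b hb.1 a ha.1)
        (fun v hv => Subgroup.mem_centralizer_iff.2 fun b hb => c.Q_cent hb.2 hv)
      have h2 : A ⊓ Q ⊔ c.V ≤ Subgroup.centralizer (c.V : Set X) := sup_le
        (fun a ha => (c.cent_V a).2 ha.2)
        (fun v hv => Subgroup.mem_centralizer_iff.2 fun b hb => c.V_comm hb hv)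
      intro a ha b hb
      have h3 : A ⊓ Q ⊔ c.V ≤ Subgroup.centralizer ({a} : Set X) := sup_le
        (fun u hu => Subgroup.mem_centralizer_singleton_iff.2 (Subgroup.mem_centralizer_iff.1 (h1 ha) u hu))
        (fun u hu => Subgroup.mem_centralizer_singleton_iff.2 (Subgroup.mem_centralizer_iff.1 (h2 ha) u hu))
      exact (Subgroup.mem_centralizer_singleton_iff.1 (h3 hb)).symm
    refine ⟨sup_le (inf_le_left.trans hAT) c.V_le_T, hcomm, fun a ha => ?_⟩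
    rw [← SetLike.mem_coe, Subgroup.mul_normal (A ⊓ Q) c.V] at ha
    obtain ⟨u, hu, v, hv, rfl⟩ := ha
    show u * v * (u * v) = 1
    rw [mul_assoc, ← mul_assoc v, ← c.Q_cent hu.2 hv, mul_assoc u v, c.V_sq hv, mul_one, hA2 u hu.1]
  -- `|V : V ∩ A| ≤ |A : A ∩ Q|`
  have hind : (A ⊓ c.V).relIndex c.V ≤ (A ⊓ Q).relIndex A := by
    have h1 := hmax _ hEAB
    have e1 : c.V.relIndex (A ⊓ Q ⊔ c.V) = c.V.relIndex (A ⊓ Q) := Subgroup.relIndex_sup_right _ _
    have e2 : Nat.card ↥(A ⊓ Q ⊔ c.V) = Nat.card ↥c.V * c.V.relIndex (A ⊓ Q) := by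
      rw [← e1, ← Subgroup.relIndex_bot_left, ← Subgroup.relIndex_bot_left,
        Subgroup.relIndex_mul_relIndex _ _ _ bot_le le_sup_right]
    have e3 : Nat.card ↥(A ⊓ Q) = Nat.card ↥(A ⊓ c.V) * c.V.relIndex (A ⊓ Q) := by
      have hle : A ⊓ c.V ≤ A ⊓ Q := inf_le_inf le_rfl c.V_le_Q
      rw [← Subgroup.relIndex_bot_left, ← Subgroup.relIndex_bot_left,
        ← Subgroup.inf_relIndex_right c.V (A ⊓ Q)]
      have : c.V ⊓ (A ⊓ Q) = A ⊓ c.V :=
        le_antisymm (le_inf (inf_le_right.trans inf_le_left) inf_le_left)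
          (le_inf inf_le_right hle)
      rw [this, Subgroup.relIndex_mul_relIndex _ _ _ bot_le hle]
    have e4 : Nat.card ↥c.V = Nat.card ↥(A ⊓ c.V) * (A ⊓ c.V).relIndex c.V := by
      rw [← Subgroup.relIndex_bot_left, ← Subgroup.relIndex_bot_left,
        Subgroup.relIndex_mul_relIndex _ _ _ bot_le inf_le_right]
    have e5 : Nat.card ↥A = Nat.card ↥(A ⊓ Q) * (A ⊓ Q).relIndex A := by
      rw [← Subgroup.relIndex_bot_left, ← Subgroup.relIndex_bot_left,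
        Subgroup.relIndex_mul_relIndex _ _ _ bot_le inf_le_left]
    rw [e2, e4, e5, e3, mul_assoc, mul_assoc, mul_comm (c.V.relIndex (A ⊓ Q))] at h1
    exact Nat.le_of_mul_le_mul_right (Nat.le_of_mul_le_mul_left h1 Nat.card_pos)
      (Nat.pos_of_ne_zero Subgroup.index_ne_zero_of_finite)
  rw [Subgroup.inf_relIndex_left] at hind
  have hQA : (Q).relIndex A ≤ 2 ^ c.n := by
    rw [← c.relIndex_QT]
    exact Subgroup.relIndex_le_of_le_right hAT Subgroup.index_ne_zero_of_finite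
  have hfix : ∀ a ∈ A, a ∉ Q → 2 ^ c.n ≤ (c.V ⊓ Subgroup.centralizer ({a} : Set X)).relIndex c.V ∧
      (c.V ⊓ Subgroup.centralizer ({a} : Set X)).relIndex c.V ≤ (A ⊓ c.V).relIndex c.V ∧
      A ⊓ c.V ≤ c.V ⊓ Subgroup.centralizer ({a} : Set X) := by
    intro a ha haQ
    obtain ⟨t₀, ht₀, he⟩ := c.quot_up (hAT ha) haQ
    have hle : A ⊓ c.V ≤ c.V ⊓ Subgroup.centralizer ({a} : Set X) := fun v hv =>
      ⟨hv.2, Subgroup.mem_centralizer_singleton_iff.2 (hAc v hv.1 a ha)⟩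
    exact ⟨index_le Q c.V (fun v hv => c.V_sq hv) c.cent_V c.hF c.e he ht₀,
      Subgroup.relIndex_le_of_le_left hle Subgroup.index_ne_zero_of_finite, hle⟩
  obtain ⟨a₀, ha₀, ha₀Q⟩ := SetLike.not_le_iff_exists.1 hAQ
  obtain ⟨g1, g2, g3⟩ := hfix a₀ ha₀ ha₀Q
  have hVA : (A ⊓ c.V).relIndex c.V = 2 ^ c.n := le_antisymm (hind.trans hQA) (g1.trans g2)
  have hQA' : (Q).relIndex A = 2 ^ c.n := le_antisymm hQA (hVA ▸ hind)
  have htop : Q ⊔ A = c.TT := by
    refine le_antisymm (sup_le c.Q_le_T hAT) (Subgroup.relIndex_eq_one.1 ?_)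
    have h := Subgroup.relIndex_mul_relIndex Q (Q ⊔ A) c.TT le_sup_left (sup_le c.Q_le_T hAT)
    rw [sup_comm, Subgroup.relIndex_sup_right, hQA', c.relIndex_QT] at h
    rw [sup_comm]
    exact Nat.eq_of_mul_eq_mul_left (Nat.two_pow_pos c.n) (h.trans (mul_one _).symm)
  have hCeq : ∀ a ∈ A, a ∉ Q → c.V ⊓ Subgroup.centralizer ({a} : Set X) ≤ A ⊓ c.V := by
    intro a ha haQ
    obtain ⟨h1, h2, h3⟩ := hfix a ha haQ
    refine Subgroup.relIndex_eq_one.1 ?_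
    have h := Subgroup.relIndex_mul_relIndex (A ⊓ c.V) _ c.V h3 inf_le_left
    rw [show (c.V ⊓ Subgroup.centralizer ({a} : Set X)).relIndex c.V = 2 ^ c.n from
      le_antisymm (hVA ▸ h2) h1, hVA] at h
    exact Nat.eq_of_mul_eq_mul_right (Nat.two_pow_pos c.n) (h.trans (one_mul _).symm)
  have hAV : A ⊓ c.V ≤ c.Z := fun v hv => by
    refine ⟨hAT hv.1, c.V_sq hv.2, fun t ht => ?_⟩
    have hle : Q ⊔ A ≤ Subgroup.centralizer ({v} : Set X) := sup_le
      (fun a ha => Subgroup.mem_centralizer_singleton_iff.2 (c.Q_cent ha hv.2))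
      fun a ha => Subgroup.mem_centralizer_singleton_iff.2 (hAc a ha v hv.1)
    exact Subgroup.mem_centralizer_singleton_iff.1 (hle (htop.symm ▸ ht))
  refine ⟨A, ⟨hAT, hAc, hA2⟩, htop, ?_, fun a ha haQ v hv hc =>
    hAV (hCeq a ha haQ ⟨hv, Subgroup.mem_centralizer_singleton_iff.2 hc.symm⟩)⟩
  have hZ : c.Z = A ⊓ c.V := le_antisymm (fun z hz => hCeq a₀ ha₀ ha₀Q
    ⟨c.Z_le_V hz, Subgroup.mem_centralizer_singleton_iff.2 (hz.2.2 a₀ (hAT ha₀)).symm⟩) hAV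
  rw [hZ, hVA]

theorem relIndex_ZV : c.Z.relIndex c.V = 2 ^ c.n := by
  obtain ⟨A, -, -, h, -⟩ := c.offender
  exact h

theorem exists_split : ∃ A, c.IsEA A ∧ (∀ a ∈ A, a ∉ Q → ∀ v ∈ c.V, a * v = v * a → v ∈ c.Z) ∧
    ∀ t ∈ c.TT, ∃ a ∈ A, a⁻¹ * t ∈ Q := by
  obtain ⟨A, hA, htop, -, hfix⟩ := c.offender
  refine ⟨A, hA, hfix, fun t ht => ?_⟩
  rw [← htop, sup_comm, ← SetLike.mem_coe, Subgroup.mul_normal A Q] at ht
  obtain ⟨a, ha, q, hq, rfl⟩ := ht
  exact ⟨a, ha, by simpa using hq⟩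

theorem fix_eq {t : X} (ht : t ∈ c.TT) (htQ : t ∉ Q) {v : X} (hv : v ∈ c.V)
    (hc : t * v = v * t) : v ∈ c.Z := by
  obtain ⟨A, -, hfix, hsp⟩ := c.exists_split
  obtain ⟨a, ha, hq⟩ := hsp t ht
  refine hfix a ha (fun haQ => htQ ?_) v hv ?_
  · simpa using mul_mem haQ hq
  · have h1 := c.Q_cent hq hv
    calc a * v = t * (a⁻¹ * t)⁻¹ * v := by group
      _ = t * v * (a⁻¹ * t)⁻¹ := by
        rw [mul_assoc, (Commute.inv_left (h1 : Commute (a⁻¹ * t) v)).eq, ← mul_assoc]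
      _ = v * a := by rw [hc]; group

theorem comm_mem {t : X} (ht : t ∈ c.TT) {v : X} (hv : v ∈ c.V) : ⁅v, t⁆ ∈ c.Z := by
  obtain ⟨A, ⟨hAT, hAc, hA2⟩, hfix, hsp⟩ := c.exists_split
  obtain ⟨a, ha, hq⟩ := hsp t ht
  have e : ⁅v, t⁆ = ⁅v, a⁆ := by
    have h1 : Commute (a⁻¹ * t) v⁻¹ := Commute.inv_right (c.Q_cent hq hv)
    rw [commutatorElement_def, commutatorElement_def]
    calc v * t * v⁻¹ * t⁻¹ = v * a * ((a⁻¹ * t) * v⁻¹) * t⁻¹ := by group
      _ = v * a * (v⁻¹ * (a⁻¹ * t)) * t⁻¹ := by rw [h1.eq]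
      _ = v * a * v⁻¹ * a⁻¹ := by group
  rw [e]
  by_cases haQ : a ∈ Q
  · rw [commutatorElement_eq_one_iff_mul_comm.2 (c.Q_cent haQ hv).symm]; exact one_mem _
  · have hai : a⁻¹ = a := inv_eq_of_mul_eq_one_left (hA2 a ha)
    have hvi : v⁻¹ = v := inv_eq_of_mul_eq_one_left (c.V_sq hv)
    have hw : a * v * a ∈ c.V := by
      have := c.V_normal.conj_mem v hv a
      rwa [hai] at this
    have hd : ⁅v, a⁆ = v * (a * v * a) := by
      rw [commutatorElement_def, hai, hvi]; group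
    refine hfix a ha haQ _ (hd ▸ mul_mem hv hw) ?_
    rw [hd]
    have h2 := c.V_comm hv hw
    calc a * (v * (a * v * a)) = a * v * a * v * a := by group
      _ = v * (a * v * a) * a := by rw [h2]

theorem K_le_Z : c.K ≤ c.Z := fun k hk =>
  ⟨c.V_le_T hk.1, c.V_sq hk.1, fun t _ => Subgroup.mem_center_iff.1 hk.2 t⟩

theorem comm_not_mem {t : X} (ht : t ∈ c.TT) (htQ : t ∉ Q) {v : X} (hv : v ∈ c.V) (hvZ : v ∉ c.Z) :
    ⁅v, t⁆ ∉ c.K := by
  intro hK
  haveI : c.K.Normal := ⟨fun k hk g => by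
    rw [Subgroup.mem_center_iff.1 hk.2 g, mul_inv_cancel_right]; exact hk⟩
  let f : X →* X ⧸ c.K := QuotientGroup.mk' c.K
  have hf : Function.Surjective f := QuotientGroup.mk'_surjective _
  haveI : ((Q).map f).Normal := Subgroup.Normal.map inferInstance _ hf
  haveI : (c.V.map f).Normal := Subgroup.Normal.map inferInstance _ hf
  -- `M`: the centralizer of `V` modulo `K`
  set M := (Subgroup.centralizer ((c.V.map f : Subgroup (X ⧸ c.K)) : Set (X ⧸ c.K))).comap f with hM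
  have hcrit : ∀ g, g ∈ M → ∀ u ∈ c.V, ∃ k ∈ c.K, g * u = u * g * k := fun g hg u hu => by
    have := Subgroup.mem_centralizer_iff.1 hg (f u) (Subgroup.mem_map_of_mem _ hu)
    rw [← map_mul, ← map_mul] at this
    exact ⟨(u * g)⁻¹ * (g * u), (QuotientGroup.eq).1 this, by group⟩
  have hMQ : M ≤ Q := by
    haveI : M.Normal := inferInstance
    refine Cores.le_pCore fun g => ?_
    by_contra hng
    push Not at hng
    -- the odd part of `g` centralizes `V`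
    obtain ⟨j, m, hm, hjm⟩ : ∃ j m, Odd m ∧ orderOf (g : X) = 2 ^ j * m :=
      ⟨_, _, Nat.odd_iff.2 (by
        have := Nat.not_dvd_ordCompl Nat.prime_two (orderOf_pos (g : X)).ne'
        omega), (Nat.ordProj_mul_ordCompl_eq_self _ 2).symm⟩
    set y := (g : X) ^ 2 ^ j with hy
    have hym : y ^ m = 1 := by rw [hy, ← pow_mul, ← hjm, pow_orderOf_eq_one]
    have hyQ : y ∈ Q := by
      refine (c.cent_V y).1 (Subgroup.mem_centralizer_iff.2 fun u hu => ?_)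
      obtain ⟨k, hk, hgu⟩ := hcrit y (pow_mem g.2 _) u hu
      have hkc : ∀ x, x * k = k * x := fun x => Subgroup.mem_center_iff.1 hk.2 x
      have key : ∀ i : ℕ, y ^ i * u = u * y ^ i * k ^ i := by
        intro i
        induction i with
        | zero => simp
        | succ i ih =>
          rw [pow_succ y, mul_assoc, hgu, mul_assoc u y, ← mul_assoc, ih, pow_succ k]
          calc u * y ^ i * k ^ i * (y * k) = u * y ^ i * (k ^ i * y) * k := by group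
            _ = u * y ^ i * (y * k ^ i) * k := by
              rw [((Commute.pow_right (hkc y : Commute y k) i)).eq]
            _ = _ := by group
      have h1 := key m
      rw [hym, one_mul, mul_one] at h1
      have h2 : k ^ m = 1 := mul_left_cancel (h1.symm.trans (mul_one u).symm)
      have h3 : k = 1 := by
        obtain ⟨i, rfl⟩ := hm
        rwa [pow_succ, pow_mul, pow_two, c.V_sq hk.1, one_pow, one_mul] at h2
      rw [hgu, h3, mul_one]
    obtain ⟨l, hl⟩ := Cores.pCore_isPGroup (G := X) 2 ⟨y, hyQ⟩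
    have hl' : y ^ 2 ^ l = 1 := congrArg Subtype.val hl
    have hy1 : y = 1 := by
      have := pow_gcd_eq_one.2 ⟨hl', hym⟩
      rwa [Nat.Coprime.pow_left l ((Nat.prime_two.coprime_iff_not_dvd).2 hm.not_two_dvd_nat),
        pow_one] at this
    exact hng j (Subtype.ext hy1)
  have hKQ : c.K ≤ Q := fun k hk => c.V_le_Q hk.1
  have hC : ∀ g, g ∈ Subgroup.centralizer ((c.V.map f : Subgroup (X ⧸ c.K)) : Set (X ⧸ c.K)) ↔
      g ∈ (Q).map f := by
    intro g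
    obtain ⟨g, rfl⟩ := hf g
    refine ⟨fun hg => Subgroup.mem_map_of_mem _ (hMQ hg), fun hg => ?_⟩
    obtain ⟨a, ha, hag⟩ := hg
    rw [← hag, Subgroup.mem_centralizer_iff]
    rintro _ ⟨u, hu, rfl⟩
    rw [← map_mul, ← map_mul, c.Q_cent ha hu]
  let e' : (X ⧸ c.K) ⧸ (Q).map f ≃* SpecialLinearGroup (Fin 2) F :=
    (QuotientGroup.quotientQuotientEquivQuotient c.K Q hKQ).trans c.e
  obtain ⟨t₀, ht₀, he⟩ := c.quot_up ht htQ
  have hidx := index_le ((Q).map f) (c.V.map f) (a := f t) (t₀ := t₀)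
    (by rintro _ ⟨u, hu, rfl⟩; rw [← map_mul, c.V_sq hu, map_one]) hC c.hF e'
    (by exact he) ht₀
  rw [Subgroup.inf_relIndex_left, ← Subgroup.relIndex_comap] at hidx
  set D := (Subgroup.centralizer ({f t} : Set (X ⧸ c.K))).comap f with hD
  rw [← Subgroup.inf_relIndex_right] at hidx
  have hZD : c.Z ≤ D ⊓ c.V := fun z hz => ⟨Subgroup.mem_centralizer_singleton_iff.2 (by
    rw [← map_mul, ← map_mul, hz.2.2 t ht]), c.Z_le_V hz⟩
  have hvD : v ∈ D ⊓ c.V := ⟨Subgroup.mem_centralizer_singleton_iff.2 (by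
    rw [← map_mul, ← map_mul]
    refine (QuotientGroup.eq.2 ?_)
    have : (v * t)⁻¹ * (t * v) = (t⁻¹ * v⁻¹) * ⁅v, t⁆⁻¹ * (v * t) := by
      rw [commutatorElement_def]; group
    rw [this]
    simpa using ((inferInstance : c.K.Normal).conj_mem _ (inv_mem hK) (t⁻¹ * v⁻¹))), hv⟩
  refine hvZ (Subgroup.relIndex_eq_one.1 ?_ hvD)
  have h := Subgroup.relIndex_mul_relIndex c.Z (D ⊓ c.V) c.V hZD inf_le_right
  rw [c.relIndex_ZV] at h
  have hpos : 0 < c.Z.relIndex (D ⊓ c.V) := Nat.pos_of_ne_zero Subgroup.index_ne_zero_of_finite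
  nlinarith [Nat.two_pow_pos c.n]

end Ctx

end Cfsg.Agent.Lib.PushUp2
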