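import Cfsg.Agent.Lib.PushUp2.Chain
import Cfsg.Agent.Lib.PushUp2.Setup
import Mathlib.GroupTheory.Complement
import Mathlib.Algebra.Group.Action.Basic

/-!
`X` inside `Sym(X)`, where every automorphism of `T` is induced by conjugation.
-/

set_option autoImplicit false

namespace Cfsg.Agent.Lib.PushUp2

open scoped commutatorElement

/-- The left regular representation. -/
def reg (X : Type*) [Group X] : X →* Equiv.Perm X := MulAction.toPermHom X X

theorem reg_injective (X : Type*) [Group X] : Function.Injective (reg X) :=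
  MulAction.toPerm_injective

theorem map_cj_hom {G H : Type*} [Group G] [Group H] (f : G →* H) (x : G) (K : Subgroup G) :
    (cj x K).map f = cj (f x) (K.map f) := by
  rw [cj, cj, Subgroup.map_map, Subgroup.map_map]
  congr 1
  ext; simp

/-- Every automorphism of a subgroup is induced by conjugation in `Sym(X)`. -/
theorem exists_perm {X : Type*} [Group X] (T : Subgroup X) (φ : ↥T ≃* ↥T) :
    ∃ π : Equiv.Perm X, ∀ t : ↥T, π * reg X t * π⁻¹ = reg X (φ t) := by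
  obtain ⟨R, hR, -⟩ := T.exists_isComplement_right 1
  let eq : ↥T × ↥R ≃ X := Equiv.ofBijective (fun p => (p.1 : X) * p.2) hR
  let π : Equiv.Perm X := eq.symm.trans ((φ.toEquiv.prodCongr (Equiv.refl _)).trans eq)
  refine ⟨π, fun t => mul_inv_eq_iff_eq_mul.2 (Equiv.ext fun y => ?_)⟩
  show π ((t : X) * y) = (φ t : X) * π y
  obtain ⟨⟨s, r⟩, rfl⟩ := eq.surjective y
  have e1 : (t : X) * eq (s, r) = eq (t * s, r) := by
    show (t : X) * ((s : X) * r) = ((t * s : ↥T) : X) * r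
    rw [Subgroup.coe_mul, mul_assoc]
  rw [e1]
  show eq ((φ.toEquiv.prodCongr (Equiv.refl _)) (eq.symm (eq (t * s, r)))) =
    (φ t : X) * eq ((φ.toEquiv.prodCongr (Equiv.refl _)) (eq.symm (eq (s, r))))
  rw [eq.symm_apply_apply, eq.symm_apply_apply]
  show ((φ (t * s) : ↥T) : X) * r = (φ t : X) * ((φ s : X) * r)
  rw [map_mul, Subgroup.coe_mul, mul_assoc]

namespace Ctx

open Matrix

variable {X : Type*} [Group X] [Finite X] {F : Type*} [Field F] [Fintype F] [CharP F 2]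
variable (c : Ctx X F)

local notation "Qc" => Cfsg.pCore 2 X
local notation "ι" => reg X

/-- The data in an overgroup `Γ` in which no nontrivial subgroup of `T` is normalised by `X` and
`N_Γ(T)`. -/
def toDataOf {Γ : Type*} [Group Γ] (f : X →* Γ) (hf : Function.Injective f)
    (hcore : ∀ C : Subgroup Γ, C ≤ c.TT.map f → (∀ x ∈ f.range, ∀ a ∈ C, x * a * x⁻¹ ∈ C) →
      (∀ n ∈ Subgroup.normalizer ((c.TT.map f : Subgroup Γ) : Set Γ), ∀ a ∈ C, n * a * n⁻¹ ∈ C) →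
      C = ⊥) : Data Γ where
  X := f.range
  Q := (Qc).map f
  T := c.TT.map f
  V := c.V.map f
  Z := c.Z.map f
  K := c.K.map f
  finX := Finite.of_surjective f.rangeRestrict f.rangeRestrict_surjective
  Q_le_T := Subgroup.map_mono c.Q_le_T
  T_le_X := by rintro _ ⟨t, -, rfl⟩; exact ⟨t, rfl⟩
  V_le_Q := Subgroup.map_mono c.V_le_Q
  Z_le_V := Subgroup.map_mono c.Z_le_V
  K_le_Z := Subgroup.map_mono c.K_le_Z
  V_ne := fun h => c.V_ne ((Subgroup.map_eq_bot_iff_of_injective _ hf).1 h)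
  Q_norm := by
    rintro _ ⟨x, rfl⟩ _ ⟨a, ha, rfl⟩
    exact ⟨x * a * x⁻¹, (inferInstance : (Qc).Normal).conj_mem a ha x, by simp⟩
  V_norm := by
    rintro _ ⟨x, rfl⟩ _ ⟨a, ha, rfl⟩
    exact ⟨x * a * x⁻¹, c.V_normal.conj_mem a ha x, by simp⟩
  V_sq := by
    rintro _ ⟨v, hv, rfl⟩
    rw [← map_mul, c.V_sq hv, map_one]
  Q_cent := by
    rintro _ ⟨a, ha, rfl⟩ _ ⟨v, hv, rfl⟩
    rw [← map_mul, ← map_mul, c.Q_cent ha hv]
  mem_Q := by
    rintro _ ⟨t, -, rfl⟩ h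
    exact ⟨t, c.mem_Q fun v hv => hf (by simpa using h _ ⟨v, hv, rfl⟩), rfl⟩
  mem_Z := fun z => by
    constructor
    · rintro ⟨z, hz, rfl⟩
      refine ⟨⟨z, hz.1, rfl⟩, by rw [← map_mul, hz.2.1, map_one], ?_⟩
      rintro _ ⟨t, ht, rfl⟩
      rw [← map_mul, ← map_mul, hz.2.2 t ht]
    · rintro ⟨⟨z, hz, rfl⟩, h2, h3⟩
      refine ⟨z, ⟨hz, hf (by simpa using h2), fun t ht => hf ?_⟩, rfl⟩
      simpa using h3 _ ⟨t, ht, rfl⟩
  mem_K := by
    rintro _ ⟨k, hk, rfl⟩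
    rw [Subgroup.mem_map_iff_mem hf]
    constructor
    · rintro h _ ⟨x, rfl⟩
      rw [← map_mul, ← map_mul, Subgroup.mem_center_iff.1 h.2 x]
    · intro h
      exact ⟨hk, Subgroup.mem_center_iff.2 fun x => hf (by simpa using h _ ⟨x, rfl⟩)⟩
  fix_eq := by
    rintro _ ⟨t, ht, rfl⟩ htQ _ ⟨v, hv, rfl⟩ hc
    exact ⟨v, c.fix_eq ht (fun h => htQ ⟨t, h, rfl⟩) hv (hf (by simpa using hc)), rfl⟩
  comm_mem := by
    rintro _ ⟨t, ht, rfl⟩ _ ⟨v, hv, rfl⟩
    exact ⟨⁅v, t⁆, c.comm_mem ht hv, map_commutatorElement _ _ _⟩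
  comm_not_mem := by
    rintro _ ⟨t, ht, rfl⟩ htQ _ ⟨v, hv, rfl⟩ hvZ h
    rw [← map_commutatorElement, Subgroup.mem_map_iff_mem hf] at h
    exact c.comm_not_mem ht (fun h => htQ ⟨t, h, rfl⟩) hv (fun h => hvZ ⟨v, h, rfl⟩) h
  relIndex_eq := by
    rw [Subgroup.relIndex_map_map_of_injective _ _ hf,
      Subgroup.relIndex_map_map_of_injective _ _ hf, c.relIndex_ZV, c.relIndex_QT]
  gen := by
    rintro _ ⟨x, rfl⟩ hne
    rw [← map_cj_hom, ← Subgroup.map_sup, MonoidHom.range_eq_map,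
      c.gen fun h => hne (by rw [← map_cj_hom, h])]
  exists_other := by
    obtain ⟨x, hx⟩ := c.exists_other
    refine ⟨f x, ⟨x, rfl⟩, fun h => hx (Subgroup.map_injective hf ?_)⟩
    rw [map_cj_hom]; exact h
  no_norm := by
    rintro _ ⟨t, ht, rfl⟩ htQ _ ⟨x, rfl⟩ hne h
    rw [← map_cj_hom] at hne
    rw [← map_cj_hom, ← map_cj_hom] at h
    exact c.no_norm ht (fun h => htQ ⟨t, h, rfl⟩) (fun he => hne (by rw [he]))
      (Subgroup.map_injective hf h)
  core := hcore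

/-- The data in `Sym(X)`. -/
def toData : Data (Equiv.Perm X) :=
  c.toDataOf ι (reg_injective X) (by
      intro C hC hX hN
      have hCn : (C.comap ι).Normal := ⟨fun a ha x => by
        show ι (x * a * x⁻¹) ∈ C
        rw [map_mul, map_mul, map_inv]
        exact hX _ ⟨x, rfl⟩ _ ha⟩
      have hle : C.comap ι ≤ c.TT := fun a ha => by
        obtain ⟨t, ht, hta⟩ := hC ha
        exact reg_injective X hta ▸ ht
      have h := c.eq_bot_of_inv (C.comap ι) hle fun φ a ha => by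
        obtain ⟨π, hπ⟩ := exists_perm c.TT φ
        show ι (φ a : X) ∈ C
        rw [← hπ a]
        refine hN π (Subgroup.mem_normalizer_iff.2 fun b => ⟨?_, ?_⟩) _ ha
        · rintro ⟨s, hs, rfl⟩
          exact ⟨φ ⟨s, hs⟩, (φ ⟨s, hs⟩).2, (hπ ⟨s, hs⟩).symm⟩
        · rintro ⟨s, hs, hsb⟩
          refine ⟨φ.symm ⟨s, hs⟩, (φ.symm ⟨s, hs⟩).2, ?_⟩
          have h1 := hπ (φ.symm ⟨s, hs⟩)
          rw [MulEquiv.apply_symm_apply] at h1
          exact mul_left_cancel (mul_right_cancel (h1.trans hsb))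
      refine le_bot_iff.1 fun a ha => ?_
      obtain ⟨t, -, rfl⟩ := hC ha
      have h1 : t ∈ C.comap ι := ha
      rw [h, Subgroup.mem_bot] at h1
      rw [h1, map_one]
      exact one_mem _
  )

/-- The pushed up copy of `V`. -/
theorem exists_U : ∃ U : Subgroup X, U ≤ c.TT ∧ Qc ⊔ U = c.TT ∧ ∀ a ∈ Qc, ∀ u ∈ U, ⁅a, u⁆ ∈ c.V := by
  obtain ⟨n, hn, hnot⟩ := Data.exists_not_le c.toData
  set D := c.toData
  set U := (cj n D.V).comap ι with hU
  have hnT : cj n D.T = D.T := D.cj_T hn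
  have hUT : cj n D.V ≤ D.T := hnT ▸ cj_mono n (D.V_le_Q.trans D.Q_le_T)
  have hmapU : U.map ι = cj n D.V := by
    rw [hU, Subgroup.map_comap_eq, inf_eq_right]
    exact hUT.trans D.T_le_X
  have hUle : U ≤ c.TT := by
    rw [← Subgroup.map_le_map_iff_of_injective (reg_injective X), hmapU]
    exact hUT
  -- some element of `cj n⁻¹ V` lies outside `Qc`
  obtain ⟨w, hw, hwQ⟩ := SetLike.not_le_iff_exists.1 hnot
  have hwT : w ∈ D.T := hUT hw
  obtain ⟨v₀, hv₀, hv₀w⟩ : ∃ v₀ ∈ D.V, w * v₀ ≠ v₀ * w := by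
    by_contra h
    push Not at h
    exact hwQ (D.mem_Q w hwT h)
  have hT' : cj n⁻¹ D.V ≤ D.T := by
    rw [← D.cj_T (D.N.inv_mem hn)]; exact cj_mono _ (D.V_le_Q.trans D.Q_le_T)
  have hnot' : ¬ cj n⁻¹ D.V ≤ D.Q := fun hle => by
    refine hv₀w ((Data.comm_cj n⁻¹⁻¹ w v₀).1 ?_)
    rw [inv_inv]
    exact (D.Q_cent _ (hle (show n⁻¹ * v₀ * n ∈ cj n⁻¹ D.V from mem_cj.2 (by simpa [mul_assoc] using hv₀)))
      _ (mem_cj.1 hw)).symm
  obtain ⟨t, ht, htQ⟩ := SetLike.not_le_iff_exists.1 hnot'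
  have hZ : cj n D.Z = D.Z := D.cj_Z hn
  have hinf : cj n D.V ⊓ D.Q ≤ D.Z := fun u hu => by
    rw [← hZ, mem_cj]
    refine D.fix_eq t (hT' ht) htQ _ (mem_cj.1 hu.1) ?_
    have h1 := D.Q_cent u hu.2 (n * t * n⁻¹) (by
      have := mem_cj.1 ht
      simpa [mul_assoc] using this)
    have h2 := (Data.comm_cj n u (n * t * n⁻¹)).2 h1
    simpa [mul_assoc] using h2.symm
  refine ⟨U, hUle, le_antisymm (sup_le c.Q_le_T hUle) (Subgroup.relIndex_eq_one.1 ?_), fun a ha u hu => ?_⟩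
  · have h := Subgroup.relIndex_mul_relIndex Qc (Qc ⊔ U) c.TT le_sup_left (sup_le c.Q_le_T hUle)
    have hQU : (Qc).relIndex U = 2 ^ c.n := by
      rw [← Subgroup.relIndex_map_map_of_injective _ _ (reg_injective X), hmapU,
        ← Subgroup.inf_relIndex_left]
      have : cj n D.V ⊓ (Qc).map ι = D.Z := le_antisymm hinf
        (le_inf (hZ ▸ cj_mono n D.Z_le_V) (D.Z_le_V.trans D.V_le_Q))
      rw [this]
      conv_lhs => rw [← hZ]
      exact (Subgroup.relIndex_map_map_of_injective _ _ (MulAut.conj n).injective).trans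
        (D.relIndex_eq.trans ((Subgroup.relIndex_map_map_of_injective _ _ (reg_injective X)).trans c.relIndex_QT))
    rw [sup_comm, Subgroup.relIndex_sup_right, hQU, c.relIndex_QT] at h
    rw [sup_comm]
    exact Nat.eq_of_mul_eq_mul_left (Nat.two_pow_pos c.n) (h.trans (mul_one _).symm)
  · have h1 : ι a * ι u * (ι a)⁻¹ ∈ cj n D.V := by
      have hu' : ι u ∈ cj n D.V := hu
      have haT : ι a ∈ cj n D.T := hnT.symm ▸ D.Q_le_T ⟨a, ha, rfl⟩
      rw [mem_cj] at hu' haT ⊢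
      have := D.V_norm _ (D.T_le_X haT) _ hu'
      simpa [mul_assoc] using this
    have h2 : ⁅ι a, ι u⁆ ∈ cj n D.V ⊓ D.Q := by
      rw [commutatorElement_def]
      refine ⟨(cj n D.V).mul_mem h1 ((cj n D.V).inv_mem hu), ?_⟩
      rw [mul_assoc, mul_assoc]
      refine mul_mem ⟨a, ha, rfl⟩ ?_
      rw [← mul_assoc]
      exact ⟨u * a⁻¹ * u⁻¹, (inferInstance : (Qc).Normal).conj_mem _ (inv_mem ha) u, by simp⟩
    have h3 := D.Z_le_V (hinf h2)
    rwa [← map_commutatorElement, show D.V = c.V.map ι from rfl,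
      Subgroup.mem_map_iff_mem (reg_injective X)] at h3

end Ctx

end Cfsg.Agent.Lib.PushUp2
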