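import Cfsg.Agent.Lib.PushUp2.Vertex

/-!
Paths of vertices, minimal noncommuting distance, shifting.
-/

set_option autoImplicit false

namespace Cfsg.Agent.Lib.PushUp2

open scoped commutatorElement

variable {Γ : Type*} [Group Γ]

namespace Data

variable (D : Data Γ)

/-- Two vertices share an edge. -/
def Adj (g h : Γ) : Prop := ∃ n E, D.AdjN n g h E

/-- Vertices at distance at most `k`. -/
def Near : ℕ → Γ → Γ → Prop
  | 0, g, h => g⁻¹ * h ∈ D.X
  | k + 1, g, h => ∃ u, Near k g u ∧ D.Adj u h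

/-- `V`'s at distance less than `b` commute. -/
def Far (b : ℕ) : Prop := ∀ k < b, ∀ g h, D.Near k g h → cj g D.V ≤ cj h D.Q

variable {D}

theorem Adj.symm {g h : Γ} : D.Adj g h → D.Adj h g := fun ⟨n, E, a⟩ => ⟨n⁻¹, E, a.symm⟩

theorem Near.prepend : ∀ {k : ℕ} {g u h : Γ}, D.Adj g u → D.Near k u h → D.Near (k + 1) g h
  | 0, g, u, h, ⟨n, E, a⟩, hu => ⟨g, by simp [Near], n, E, a.sameX_right hu⟩
  | k + 1, _, _, _, ha, ⟨w, hw, hwh⟩ => ⟨w, Near.prepend ha hw, hwh⟩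

theorem Near.symm : ∀ {k : ℕ} {g h : Γ}, D.Near k g h → D.Near k h g
  | 0, g, h, hgh => by
    show h⁻¹ * g ∈ D.X
    simpa using D.X.inv_mem hgh
  | k + 1, _, _, ⟨u, hu, huh⟩ => Near.prepend huh.symm (Near.symm hu)

theorem Near.sameX_right : ∀ {k : ℕ} {g h h' : Γ}, D.Near k g h → h⁻¹ * h' ∈ D.X → D.Near k g h'
  | 0, g, h, h', hgh, hh => by
    show g⁻¹ * h' ∈ D.X
    simpa [mul_assoc] using D.X.mul_mem hgh hh
  | k + 1, _, _, _, ⟨u, hu, n, E, a⟩, hh => ⟨u, hu, n, E, a.sameX_right hh⟩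

theorem Far.commute {b k : ℕ} {g h u v : Γ} (hF : D.Far b) (hk : k < b) (hn : D.Near k g h)
    (hu : u ∈ cj g D.V) (hv : v ∈ cj h D.V) : u * v = v * u :=
  Q_cent' (hF k hk g h hn hu) hv

/-- A critical path of length `b`. -/
structure Path (D : Data Γ) (b : ℕ) where
  f : ℕ → Γ
  E : ℕ → Subgroup Γ
  off : ℕ → Γ
  adj : ∀ i < b, D.AdjN (off i) (f i) (f (i + 1)) (E i)
  crit : ¬ cj (f 0) D.V ≤ cj (f b) D.Q

theorem exists_seq : ∀ {k : ℕ} {g h : Γ}, D.Near k g h →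
    ∃ (f : ℕ → Γ) (E : ℕ → Subgroup Γ) (off : ℕ → Γ), g⁻¹ * f 0 ∈ D.X ∧ f k = h ∧
      ∀ i < k, D.AdjN (off i) (f i) (f (i + 1)) (E i)
  | 0, g, h, hgh => ⟨fun _ => h, fun _ => D.T, fun _ => 1, hgh, rfl, fun i hi => absurd hi (Nat.not_lt_zero i)⟩
  | k + 1, g, h, ⟨u, hu, n, E₁, a⟩ => by
    obtain ⟨f, E, off, h0, hk, hf⟩ := exists_seq hu
    refine ⟨fun i => if i ≤ k then f i else h, fun i => if i < k then E i else E₁,
      fun i => if i < k then off i else n, by simpa using h0, by simp, fun i hi => ?_⟩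
    rcases Nat.lt_or_eq_of_le (Nat.lt_succ_iff.1 hi) with h1 | rfl
    · simp only [if_pos h1.le, if_pos (Nat.succ_le_of_lt h1), if_pos h1]
      exact hf i h1
    · simp only [le_refl, if_true, lt_irrefl, if_false, show ¬ i + 1 ≤ i by omega]
      rw [hk]; exact a

theorem Path.near {b : ℕ} (P : D.Path b) : ∀ j i : ℕ, i + j ≤ b → D.Near j (P.f i) (P.f (i + j))
  | 0, i, _ => by show (P.f i)⁻¹ * P.f i ∈ D.X; simp
  | j + 1, i, h => ⟨P.f (i + j), P.near j i (by omega), _, _, P.adj (i + j) (by omega)⟩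

theorem Path.le_E {b : ℕ} (P : D.Path b) (hF : D.Far b) (hb : 1 ≤ b) :
    cj (P.f b) D.V ≤ P.E 0 ∧ cj (P.f 0) D.V ≤ P.E (b - 1) := by
  constructor
  · have h := P.near (b - 1) 1 (by omega)
    rw [show 1 + (b - 1) = b by omega] at h
    exact (hF (b - 1) (by omega) _ _ h.symm).trans (P.adj 0 (by omega)).edge'.Q_le
  · have h := P.near (b - 1) 0 (by omega)
    rw [zero_add] at h
    exact (hF (b - 1) (by omega) _ _ h).trans (P.adj (b - 1) (by omega)).edge.Q_le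

theorem Path.toCrit {b : ℕ} (P : D.Path b) (hF : D.Far b) (hb : 1 ≤ b) :
    D.Crit (P.f 0) (P.f b) (P.E 0) (P.E (b - 1)) := by
  have e := P.adj (b - 1) (by omega)
  rw [show b - 1 + 1 = b by omega] at e
  exact ⟨(P.adj 0 (by omega)).edge, e.edge', (P.le_E hF hb).1, (P.le_E hF hb).2, P.crit⟩

/-- The reversed path. -/
def Path.rev {b : ℕ} (P : D.Path b) (hF : D.Far b) (hb : 1 ≤ b) : D.Path b where
  f i := P.f (b - i)
  E i := P.E (b - 1 - i)
  off i := (P.off (b - 1 - i))⁻¹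
  adj i hi := by
    have h := (P.adj (b - 1 - i) (by omega)).symm
    rw [show b - 1 - i + 1 = b - i by omega] at h
    rwa [show b - (i + 1) = b - 1 - i by omega]
  crit := by
    have h := (P.toCrit hF hb).symm.2.2.2.2
    simpa using h

/-- The left end of a critical path is not bad, seen from the second vertex. -/
theorem Path.good_left {b : ℕ} (P : D.Path b) (hF : D.Far b) (hb : 2 ≤ b) : ¬ D.Bad (P.off 0)⁻¹ := by
  intro hbad
  have a0 := (P.adj 0 (by omega)).symm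
  have a1 := P.adj 1 (by omega)
  rw [a0.bad_iff] at hbad
  obtain ⟨hm, x0, hx0, x0', hx0', hf0, hE0⟩ := id a0
  obtain ⟨-, x1, hx1, -, -, -, hE1⟩ := id a1
  set g1 := P.f 1 with hg1
  set y := g1 * x1 * x0⁻¹ * g1⁻¹ with hy
  have hyX : y ∈ cj g1 D.X := mem_cj.2 (by
    have := D.X.mul_mem hx1 (D.X.inv_mem hx0)
    simpa [hy, mul_assoc] using this)
  have a' : D.AdjN (P.off 0)⁻¹ g1 (y * P.f 0) (P.E 1) := by
    refine ⟨hm, x1, hx1, x0', hx0', ?_, hE1⟩
    rw [hf0, hy]; group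
  obtain ⟨k, hk⟩ := a'.share a1
  have hnear : D.Near (b - 1) (y * P.f 0) (P.f b) := by
    have h := P.near (b - 2) 2 (by omega)
    rw [show 2 + (b - 2) = b by omega] at h
    have h2 := Near.prepend ⟨k, _, hk⟩ h
    rwa [show b - 2 + 1 = b - 1 by omega] at h2
  refine P.crit fun v hv => ?_
  have hle : cj (y * P.f 0) D.V ⊔ cj g1 D.V ≤ cj (P.f b) D.Q := by
    refine sup_le (hF _ (by omega) _ _ hnear) ?_
    have h := P.near (b - 1) 1 (by omega)
    rw [show 1 + (b - 1) = b by omega] at h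
    exact hF _ (by omega) _ _ h
  have hyV : cj y (cj g1 D.V) = cj g1 D.V := by
    ext u
    rw [mem_cj]
    exact ⟨fun h => by simpa [mul_assoc] using V_conj g1 hyX h,
      fun h => by simpa [mul_assoc] using V_conj g1 ((cj g1 D.X).inv_mem hyX) h⟩
  have h2 : cj y (cj (P.f 0) D.V ⊔ cj g1 D.V) = cj (P.f 0) D.V ⊔ cj g1 D.V := by
    ext u
    rw [mem_cj]
    exact ⟨fun h => by simpa [mul_assoc] using hbad y hyX _ h,
      fun h => by simpa [mul_assoc] using hbad y⁻¹ ((cj g1 D.X).inv_mem hyX) _ h⟩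
  rw [cj_sup, ← cj_mul, hyV] at h2
  exact hle (h2.symm ▸ Subgroup.mem_sup_left hv)

/-- Shift a critical path to the left along a good offset. -/
theorem Path.exists_shift {b : ℕ} (P : D.Path b) (hF : D.Far b) (hb : 1 ≤ b) {n : Γ} (hnN : n ∈ D.N)
    (hn : ¬ D.Bad n) : ∃ P' : D.Path b, P'.E 0 ≠ P.E 0 ∧ P'.off 0 = n⁻¹ ∧
      ∀ i, P'.f (i + 1) = P.f i ∧ P'.E (i + 1) = P.E i ∧ P'.off (i + 1) = P.off i := by
  obtain ⟨x, hx, hxne⟩ := (P.adj 0 (by omega)).edge.exists_other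
  have a : D.AdjN n (P.f 0) (P.f 0 * x * n) (cj (P.f 0 * x) D.T) :=
    ⟨hnN, x, hx, 1, D.X.one_mem, (mul_one _).symm, rfl⟩
  refine ⟨⟨fun i => match i with | 0 => P.f 0 * x * n | i + 1 => P.f i,
    fun i => match i with | 0 => cj (P.f 0 * x) D.T | i + 1 => P.E i,
    fun i => match i with | 0 => n⁻¹ | i + 1 => P.off i, ?_, ?_⟩, hxne, rfl,
    fun i => ⟨rfl, rfl, rfl⟩⟩
  · intro i hi
    match i with
    | 0 => exact a.symm
    | i + 1 => exact P.adj i (by omega)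
  · obtain ⟨c, rfl⟩ : ∃ c, b = c + 1 := ⟨b - 1, by omega⟩
    intro hle
    exact shift (P.toCrit hF hb) a hxne hn
      (hle.trans (P.adj c (by omega)).edge.Q_le)

end Data

end Cfsg.Agent.Lib.PushUp2
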