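import Cfsg.Agent.Lib.PushUp2.Defs
import Cfsg.Agent.Lib.SL2Module.Conj

/-!
Elementary properties of a Sylow 2-subgroup `S` of a group isomorphic to `SL₂(2ⁿ)`.
-/

set_option autoImplicit false

namespace Cfsg.Agent.Lib.PushUp2

open Matrix
open scoped Pointwise
open Cfsg.Agent.Lib.PLocal.SLTwo (up lo up_zero up_add val_mul)

variable {F : Type*} [Field F] {G : Type*} [Group G] {S : Subgroup G}
  {e : G ≃* SpecialLinearGroup (Fin 2) F}

theorem uSL_eq_up (x : F) : Linear.uSL (Multiplicative.ofAdd x) = up x :=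
  Subtype.ext (Linear.coe_uSL _)

theorem mem_range_uSL {M : SpecialLinearGroup (Fin 2) F} :
    M ∈ (Linear.uSL (F := F)).range ↔ ∃ x, M = up x :=
  ⟨fun ⟨t, ht⟩ => ⟨t.toAdd, by rw [← ht, ← uSL_eq_up, ofAdd_toAdd]⟩,
    fun ⟨x, hx⟩ => ⟨Multiplicative.ofAdd x, by rw [hx, uSL_eq_up]⟩⟩

theorem map_eq_range (hS : ∀ l, l ∈ S ↔ ∃ x, e l = up x) :
    S.map e.toMonoidHom = (Linear.uSL (F := F)).range := by
  ext M
  rw [mem_range_uSL]
  constructor
  · rintro ⟨l, hl, rfl⟩; exact (hS l).1 hl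
  · rintro ⟨x, rfl⟩
    exact ⟨e.symm (up x), (hS _).2 ⟨x, e.apply_symm_apply _⟩, e.apply_symm_apply _⟩

theorem upper_of_conj_up {M : SpecialLinearGroup (Fin 2) F} {x y : F} (hne : x ≠ 0 ∨ y ≠ 0)
    (h : up x * M = M * up y) : M.1 1 0 = 0 := by
  rw [← uSL_eq_up, ← uSL_eq_up] at h
  refine Linear.upper_of_uSL_mul_eq h (hne.imp (fun h1 h2 => h1 ?_) fun h1 h2 => h1 ?_) <;>
    simpa using congrArg Multiplicative.toAdd h2

/-- An element that fixes `S` is upper triangular, and conversely. -/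
theorem cj_eq_iff (hS : ∀ l, l ∈ S ↔ ∃ x, e l = up x) (g : G) :
    cj g S = S ↔ (e g).1 1 0 = 0 := by
  constructor
  · intro h
    have h1 : e.symm (up 1) ∈ S := (hS _).2 ⟨1, e.apply_symm_apply _⟩
    have h2 : g * e.symm (up 1) * g⁻¹ ∈ S := by
      have := conj_mem_cj (g := g) h1
      rwa [h] at this
    obtain ⟨z, hz⟩ := (hS _).1 h2
    refine upper_of_conj_up (x := z) (y := 1) (Or.inr one_ne_zero) ?_
    rw [← hz, map_mul, map_mul, map_inv, e.apply_symm_apply]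
    group
  · intro h
    apply Subgroup.map_injective (f := e.toMonoidHom) e.injective
    rw [map_eq_range hS]
    conv_rhs => rw [← Linear.upper_conj_uSL h]
    rw [← map_eq_range hS]
    ext M
    rw [Subgroup.mem_pointwise_smul_iff_inv_smul_mem, MulAut.smul_def, MulAut.inv_apply,
      MulAut.conj_symm_apply]
    constructor
    · rintro ⟨a, ha, rfl⟩
      exact ⟨g⁻¹ * a * g, mem_cj.1 ha, by simp⟩
    · rintro ⟨b, hb, hbM⟩
      refine ⟨g * b * g⁻¹, conj_mem_cj hb, ?_⟩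
      have h1 : e b = (e g)⁻¹ * M * e g := hbM
      show e (g * b * g⁻¹) = M
      rw [map_mul, map_mul, map_inv, h1]
      group

theorem sl_gen (hS : ∀ l, l ∈ S ↔ ∃ x, e l = up x) {g : G} (h : cj g S ≠ S) :
    S ⊔ cj g S = ⊤ := by
  have hk : (e g).1 1 0 ≠ 0 := fun h0 => h ((cj_eq_iff hS g).2 h0)
  apply Subgroup.map_injective (f := e.toMonoidHom) e.injective
  rw [Subgroup.map_top_of_surjective _ e.surjective, Subgroup.map_sup,
    ← Linear.uSL_sup_conj_eq_top hk, map_eq_range hS]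
  congr 1
  rw [← map_eq_range hS, cj, Subgroup.map_map]
  ext M
  rw [Subgroup.mem_pointwise_smul_iff_inv_smul_mem, MulAut.smul_def, MulAut.inv_apply,
    MulAut.conj_symm_apply]
  constructor
  · rintro ⟨a, ha, rfl⟩
    exact ⟨a, ha, by simp [mul_assoc]⟩
  · rintro ⟨b, hb, hbM⟩
    refine ⟨b, hb, ?_⟩
    show e (g * b * g⁻¹) = M
    rw [map_mul, map_mul, map_inv, show e b = (e g)⁻¹ * M * e g from hbM]
    group

theorem sl_ti (hS : ∀ l, l ∈ S ↔ ∃ x, e l = up x) {g t : G} (h : cj g S ≠ S) (ht : t ∈ S)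
    (htg : t ∈ cj g S) : t = 1 := by
  obtain ⟨x, hx⟩ := (hS t).1 ht
  obtain ⟨y, hy⟩ := (hS _).1 (mem_cj.1 htg)
  by_contra hne
  refine h ((cj_eq_iff hS g).2 (upper_of_conj_up (x := x) (y := y) (Or.inl fun h0 => hne ?_) ?_))
  · apply e.injective
    rw [hx, h0, up_zero, map_one]
  · rw [← hx, ← hy, map_mul, map_mul, map_inv]; group

theorem sl_exists_other (hS : ∀ l, l ∈ S ↔ ∃ x, e l = up x) : ∃ g, cj g S ≠ S :=
  ⟨e.symm (lo 1), fun h => by
    have := (cj_eq_iff hS _).1 h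
    rw [e.apply_symm_apply] at this
    simp [lo] at this⟩

theorem up_of_upper_sq [CharP F 2] {M : SpecialLinearGroup (Fin 2) F} (h10 : M.1 1 0 = 0)
    (hsq : M * M = 1) : ∃ x, M = up x := by
  have hd : M.1 0 0 * M.1 1 1 - M.1 0 1 * M.1 1 0 = 1 := by
    have := M.2; rwa [Matrix.det_fin_two] at this
  have h00 : M.1 0 0 = 1 := by
    have h := congrArg (fun N : SpecialLinearGroup (Fin 2) F => N.1 0 0) hsq
    simp [val_mul, Matrix.mul_apply, Fin.sum_univ_two, h10] at h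
    have h3 : (M.1 0 0 + 1) * (M.1 0 0 + 1) = 0 := by
      linear_combination h + (M.1 0 0 + 1) * (CharP.cast_eq_zero F 2)
    rw [mul_self_eq_zero, add_eq_zero_iff_eq_neg, CharTwo.neg_eq] at h3
    exact h3
  rw [h00, h10, mul_zero, sub_zero, one_mul] at hd
  refine ⟨M.1 0 1, Subtype.ext ?_⟩
  ext i j
  fin_cases i <;> fin_cases j <;> simp [up, h00, h10, hd]

theorem conj_entry (k M : SpecialLinearGroup (Fin 2) F) :
    (k * M * k⁻¹).1 1 0 = k.1 1 0 * k.1 1 1 * (M.1 0 0 - M.1 1 1) + k.1 1 1 * k.1 1 1 * M.1 1 0 -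
      k.1 1 0 * k.1 1 0 * M.1 0 1 := by
  simp [SpecialLinearGroup.coe_mul, SpecialLinearGroup.coe_inv, Matrix.adjugate_fin_two,
    Matrix.mul_apply, Fin.sum_univ_two]
  ring

theorem sl_no_norm [CharP F 2] (hS : ∀ l, l ∈ S ↔ ∃ x, e l = up x) {g t : G} (h : cj g S ≠ S)
    (ht : t ∈ S) (htne : t ≠ 1) : cj t (cj g S) ≠ cj g S := by
  intro heq
  refine htne (sl_ti hS h ht (mem_cj.2 ?_))
  have h1 : cj (g⁻¹ * t * g) S = S := by
    rw [mul_assoc, cj_mul, cj_mul, heq, cj_inv_cancel]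
  obtain ⟨x, hx⟩ := (hS t).1 ht
  have hsq : e (g⁻¹ * t * g) * e (g⁻¹ * t * g) = 1 := by
    rw [← map_mul, show g⁻¹ * t * g * (g⁻¹ * t * g) = g⁻¹ * (t * t) * g by group]
    simp only [map_mul, map_inv, hx, ← up_add, CharTwo.add_self_eq_zero, up_zero, mul_one,
      inv_mul_cancel]
  exact (hS _).2 (up_of_upper_sq ((cj_eq_iff hS _).1 h1) hsq)

/-- A nontrivial normal subgroup covers the quotient over `S`. -/
theorem sl_normal [CharP F 2] (hS : ∀ l, l ∈ S ↔ ∃ x, e l = up x) (C : Subgroup G) [hC : C.Normal]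
    (hne : C ≠ ⊥) : C ⊔ S = ⊤ := by
  by_cases h : ∃ c ∈ C, cj c S ≠ S
  · obtain ⟨c, hc, hcS⟩ := h
    rw [eq_top_iff, ← sl_gen hS hcS]
    refine sup_le le_sup_right ?_
    rintro _ ⟨a, ha, rfl⟩
    exact Subgroup.mul_mem _ (Subgroup.mul_mem _ (Subgroup.mem_sup_left hc) (Subgroup.mem_sup_right ha))
      (Subgroup.inv_mem _ (Subgroup.mem_sup_left hc))
  · push Not at h
    refine absurd (le_bot_iff.1 fun c hc => ?_) hne
    have hu : ∀ k : SpecialLinearGroup (Fin 2) F, (k * e c * k⁻¹).1 1 0 = 0 := fun k => by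
      have := (cj_eq_iff hS _).1 (h _ (hC.conj_mem c hc (e.symm k)))
      rwa [map_mul, map_mul, map_inv, e.apply_symm_apply] at this
    have h1 := hu 1
    simp only [one_mul, inv_one, mul_one] at h1
    have hd : (e c).1 0 0 * (e c).1 1 1 - (e c).1 0 1 * (e c).1 1 0 = 1 := by
      have := (e c).2; rwa [Matrix.det_fin_two] at this
    rw [h1, mul_zero, sub_zero] at hd
    have h2 := hu (lo 1)
    rw [conj_entry] at h2
    obtain ⟨w, hw⟩ : ∃ w : SpecialLinearGroup (Fin 2) F, w.1 = !![0, 1; 1, 0] :=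
      ⟨⟨!![0, 1; 1, 0], by simp [Matrix.det_fin_two, CharTwo.neg_eq]⟩, rfl⟩
    have h3 := hu w
    rw [conj_entry, hw] at h3
    simp [h1] at h3
    simp [lo, h1, h3, sub_eq_zero] at h2
    have h4 : (e c).1 0 1 = 0 := h3
    have h6 : (e c).1 0 0 = (e c).1 1 1 := h2
    rw [← h6] at hd
    have h8 : (e c).1 0 0 = 1 := by
      have h3 : ((e c).1 0 0 + 1) * ((e c).1 0 0 + 1) = 0 := by
        linear_combination hd + ((e c).1 0 0 + 1) * (CharP.cast_eq_zero F 2)
      rw [mul_self_eq_zero, add_eq_zero_iff_eq_neg, CharTwo.neg_eq] at h3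
      exact h3
    rw [Subgroup.mem_bot]
    apply e.injective
    rw [map_one]
    apply Subtype.ext
    ext i j
    fin_cases i <;> fin_cases j <;> simp [h1, h4, h8, ← h6]

theorem sl_card [Fintype F] (hS : ∀ l, l ∈ S ↔ ∃ x, e l = up x) : Nat.card ↥S = Fintype.card F := by
  rw [Nat.card_congr (S.equivMapOfInjective e.toMonoidHom e.injective).toEquiv, map_eq_range hS,
    Linear.card_range_uSL, Nat.card_eq_fintype_card]

end Cfsg.Agent.Lib.PushUp2
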