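import Cfsg.Agent.Lib.PushUp2.Near
import Mathlib.GroupTheory.Transfer
import Mathlib.GroupTheory.SpecificGroups.Cyclic
import Mathlib.GroupTheory.Perm.Basic

/-!
Pushing up over `Sym(3)` with `O₂(X) = V`: the group is `Sym(4)` or `Sym(4) × C₂`.
-/

set_option autoImplicit false

namespace Cfsg.Agent.Lib.PushUp2

open scoped commutatorElement

theorem le_sup_of_two {G : Type*} [Group G] {H J : Subgroup G} (h2 : H.relIndex J = 2) {x : G}
    (hx : x ∈ J) (hxH : x ∉ H) : J ≤ H ⊔ Subgroup.zpowers x := by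
  intro j hj
  by_cases hjH : j ∈ H
  · exact Subgroup.mem_sup_left hjH
  · have h : (⟨j, hj⟩ * ⟨x, hx⟩ : ↥J) ∈ H.subgroupOf J :=
      (Subgroup.mul_mem_iff_of_index_two h2).2 ⟨fun h => absurd h hjH, fun h => absurd h hxH⟩
    have h' : j * x ∈ H := h
    have := (H ⊔ Subgroup.zpowers x).mul_mem (Subgroup.mem_sup_left h')
      (inv_mem (Subgroup.mem_sup_right (Subgroup.mem_zpowers x)))
    rwa [mul_inv_cancel_right] at this

namespace Ctx

open Matrix

variable {X : Type*} [Group X] [Finite X] {F : Type*} [Field F] [Fintype F] [CharP F 2]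
variable (c : Ctx X F)

local notation "Qc" => Cfsg.pCore 2 X

theorem card_quot (hn : c.n = 1) : Nat.card (X ⧸ Qc) = 6 := by
  rw [Nat.card_congr c.e.toEquiv, Linear.card_SL_two]
  simp [c.hF, hn]

theorem K_normal : c.K.Normal := ⟨fun k hk g => by
  rw [Subgroup.mem_center_iff.1 hk.2 g, mul_inv_cancel_right]; exact hk⟩

theorem relIndex_KZ_two (hn : c.n = 1) : c.K.relIndex c.Z = 2 := by
  have h := c.relIndex_KZ
  rw [hn, pow_one] at h
  have h0 : c.K.relIndex c.Z ≠ 0 := Subgroup.index_ne_zero_of_finite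
  have h1 : c.K.relIndex c.Z ≠ 1 := fun h1 => c.Z_not_normal (by
    rw [le_antisymm (Subgroup.relIndex_eq_one.1 h1) c.K_le_Z]; exact c.K_normal)
  omega

theorem relIndex_KV_four (hn : c.n = 1) : c.K.relIndex c.V = 4 := by
  rw [← Subgroup.relIndex_mul_relIndex c.K c.Z c.V c.K_le_Z c.Z_le_V, c.relIndex_KZ_two hn,
    c.relIndex_ZV, hn]
  norm_num

theorem card_eq (hn : c.n = 1) (hQV : Qc = c.V) : Nat.card X = 24 * Nat.card ↥c.K := by
  rw [Subgroup.card_eq_card_quotient_mul_card_subgroup Qc, c.card_quot hn]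
  have h : Nat.card ↥c.V = Nat.card ↥c.K * 4 := by
    rw [← c.relIndex_KV_four hn, ← Subgroup.relIndex_bot_left, ← Subgroup.relIndex_bot_left,
      Subgroup.relIndex_mul_relIndex ⊥ c.K c.V bot_le inf_le_left]
  rw [hQV, h]; ring

theorem card_sylow_three [Fact (Nat.Prime 3)] (hn : c.n = 1) (hQV : Qc = c.V)
    (hK : Nat.card ↥c.K ≤ 2) (P : Sylow 3 X) :
    Nat.card (Sylow 3 X) = 4 ∧ Nat.card ↥(P : Subgroup X) = 3 := by
  have hX := c.card_eq hn hQV
  have hK0 : 0 < Nat.card ↥c.K := Nat.card_pos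
  have hP : Nat.card ↥(P : Subgroup X) = 3 := by
    have h1 : 3 ∣ Nat.card ↥(P : Subgroup X) :=
      Sylow.dvd_card_of_dvd_card P (hX ▸ dvd_mul_of_dvd_left (by norm_num) _)
    obtain ⟨k, hk⟩ := IsPGroup.iff_card.1 P.isPGroup'
    have h2 : 3 ^ k ∣ 24 * Nat.card ↥c.K := hX ▸ hk ▸ (P : Subgroup X).card_subgroup_dvd_card
    rw [hk]
    rcases k with - | - | k
    · rw [hk] at h1; norm_num at h1
    · rfl
    · exfalso
      have h3 : 9 ∣ 24 * Nat.card ↥c.K := (Dvd.intro_left (3 ^ k) (by ring)).trans h2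
      interval_cases h : Nat.card ↥c.K <;> norm_num at h3
  refine ⟨?_, hP⟩
  have h1 : Nat.card (Sylow 3 X) % 3 = 1 := card_sylow_modEq_one 3 X
  have h2 := P.card_eq_index_normalizer
  have h3 : Nat.card (Sylow 3 X) ∣ 8 := by
    have hd : 3 * Nat.card ↥c.K ∣ Nat.card ↥(Subgroup.normalizer (P : Set X)) := by
      refine Nat.Coprime.mul_dvd_of_dvd_of_dvd ?_ ?_ ?_
      · interval_cases h : Nat.card ↥c.K <;> norm_num
      · exact hP.symm.dvd.trans (Subgroup.card_dvd_of_le (Subgroup.le_normalizer (H := (P : Subgroup X))))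
      · refine Subgroup.card_dvd_of_le fun k hk => Subgroup.mem_normalizer_iff.2 fun a => ?_
        rw [show k * a * k⁻¹ = a by rw [← Subgroup.mem_center_iff.1 hk.2 a, mul_inv_cancel_right]]
    obtain ⟨m, hm⟩ := hd
    have h4 := Subgroup.card_mul_index (Subgroup.normalizer (P : Set X))
    rw [hm, ← h2, hX] at h4
    refine ⟨m, Nat.eq_of_mul_eq_mul_left (show 0 < 3 * Nat.card ↥c.K by omega) ?_⟩
    calc 3 * Nat.card ↥c.K * 8 = 24 * Nat.card ↥c.K := by ring
      _ = _ := by rw [← h4]; ring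
  have hne : Nat.card (Sylow 3 X) ≠ 1 := by
    intro he
    haveI : (P : Subgroup X).Normal := Subgroup.normalizer_eq_top_iff.1
      (Subgroup.index_eq_one.1 (h2 ▸ he))
    have hd : Disjoint (P : Subgroup X) Qc := by
      rw [disjoint_iff]
      refine Subgroup.inf_eq_bot_of_coprime ?_
      obtain ⟨k, hk⟩ := IsPGroup.iff_card.1 (Cores.pCore_isPGroup (G := X) 2)
      rw [hP, hk]
      exact Nat.Coprime.pow_right k (by norm_num)
    have hle : (P : Subgroup X) ≤ Qc := fun y hy => c.hX (Subgroup.mem_centralizer_iff.2 fun a ha =>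
      (Subgroup.commute_of_normal_of_disjoint _ _ inferInstance inferInstance hd y a hy ha).eq.symm)
    have hbot : (P : Subgroup X) = ⊥ := eq_bot_iff.2 (by
      rw [← disjoint_iff.1 hd]; exact le_inf le_rfl hle)
    rw [hbot, Subgroup.card_bot] at hP
    omega
  have h5 : Nat.card (Sylow 3 X) ≤ 8 := Nat.le_of_dvd (by norm_num) h3
  interval_cases h : Nat.card (Sylow 3 X) <;> omega

/-- The action on the four Sylow 3-subgroups has kernel `K`. -/
theorem ker_sylow [Fact (Nat.Prime 3)] (hn : c.n = 1) (hQV : Qc = c.V) (hK : Nat.card ↥c.K ≤ 2) :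
    (MulAction.toPermHom X (Sylow 3 X)).ker = c.K := by
  set N := (MulAction.toPermHom X (Sylow 3 X)).ker with hN
  haveI := c.K_normal
  have hmem : ∀ g, g ∈ N ↔ ∀ P : Sylow 3 X, g ∈ Subgroup.normalizer (P : Set X) := by
    intro g
    rw [hN, MonoidHom.mem_ker]
    refine ⟨fun h P => Sylow.smul_eq_iff_mem_normalizer.1 (Equiv.ext_iff.1 h P), fun h => Equiv.ext
      fun P => Sylow.smul_eq_iff_mem_normalizer.2 (h P)⟩
  have hKN : c.K ≤ N := fun k hk => (hmem k).2 fun P => Subgroup.mem_normalizer_iff.2 fun a => by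
    rw [show k * a * k⁻¹ = a by rw [← Subgroup.mem_center_iff.1 hk.2 a, mul_inv_cancel_right]]
  obtain ⟨P⟩ : Nonempty (Sylow 3 X) := inferInstance
  obtain ⟨h4, hP⟩ := c.card_sylow_three hn hQV hK P
  have hdisj : ∀ y ∈ (P : Subgroup X), y ∈ c.V → y = 1 := fun y hy hyV => by
    have h1 : y * y = 1 := c.V_sq hyV
    have h2 : y ^ 3 = 1 := by
      rw [← hP]; exact congrArg Subtype.val (pow_card_eq_one' (x := (⟨y, hy⟩ : ↥(P : Subgroup X))))
    have := pow_gcd_eq_one.2 ⟨(show y ^ 2 = 1 by rw [pow_two, h1]), h2⟩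
    simpa using this
  have hNV : N ⊓ c.V ≤ c.K := by
    by_contra hcon
    have hc := c.cover (N ⊓ c.V) inf_le_right hcon
    obtain ⟨⟨y, hy⟩, hy1'⟩ := Subgroup.ne_bot_iff_exists_ne_one.1
      (fun h : (P : Subgroup X) = ⊥ => by rw [h, Subgroup.card_bot] at hP; omega)
    have hy1 : y ≠ 1 := fun h => hy1' (Subtype.ext h)
    have hle : c.V ≤ Subgroup.centralizer ({y} : Set X) := hc.trans (sup_le
      (fun w hw => Subgroup.mem_centralizer_singleton_iff.2 (by
        refine commutatorElement_eq_one_iff_mul_comm.1 (hdisj _ ?_ ?_)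
        · rw [commutatorElement_def]
          exact mul_mem ((Subgroup.mem_normalizer_iff.1 ((hmem w).1 hw.1 P) y).1 hy) (inv_mem hy)
        · rw [commutatorElement_def, mul_assoc, mul_assoc]
          refine mul_mem hw.2 ?_
          rw [← mul_assoc]
          exact c.V_normal.conj_mem _ (inv_mem hw.2) y))
      fun k hk => Subgroup.mem_centralizer_singleton_iff.2 (Subgroup.mem_center_iff.1 hk.2 y).symm)
    exact hy1 (hdisj y hy (hQV ▸ c.mem_Q fun v hv =>
      (Subgroup.mem_centralizer_singleton_iff.1 (hle hv)).symm))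
  refine le_antisymm (fun g hg => hNV ⟨hg, ?_⟩) hKN
  by_contra hgV
  have htop := c.normal_sup (C := N) fun h => hgV (hQV ▸ h hg)
  have hidx : N.index ∣ Nat.card ↥c.TT := by
    have h : N.index = N.relIndex c.TT := by
      rw [← Subgroup.relIndex_top_right, ← htop, sup_comm, Subgroup.relIndex_sup_right]
    rw [h]; exact Subgroup.index_dvd_card _
  have hall : ∀ S : Sylow 3 X, (S : Subgroup X) ≤ N := fun S y hy => by
    obtain ⟨k, hk⟩ := IsPGroup.iff_card.1 c.isPGroup_T
    have h1 : (QuotientGroup.mk' N y) ^ 2 ^ k = 1 := by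
      obtain ⟨m, hm⟩ := hidx
      rw [← hk, hm, pow_mul, Subgroup.index_eq_card, pow_card_eq_one', one_pow]
    have h2 : (QuotientGroup.mk' N y) ^ 3 = 1 := by
      rw [← map_pow, show y ^ 3 = 1 by
        rw [← (c.card_sylow_three hn hQV hK S).2]
        exact congrArg Subtype.val (pow_card_eq_one' (x := (⟨y, hy⟩ : ↥(S : Subgroup X)))), map_one]
    have := pow_gcd_eq_one.2 ⟨h1, h2⟩
    rw [Nat.Coprime.pow_left k (by norm_num : Nat.Coprime 2 3), pow_one] at this
    exact (QuotientGroup.eq_one_iff y).1 this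
  haveI : Nontrivial (Sylow 3 X) := Finite.one_lt_card_iff_nontrivial.1 (by omega)
  obtain ⟨S, hS⟩ := exists_ne P
  refine hS (Sylow.ext ?_)
  have h := IsPGroup.inf_normalizer_sylow P.isPGroup' S
  have hle : (P : Subgroup X) ≤ (S : Subgroup X) := by
    rw [← inf_eq_left, ← h, inf_eq_left]
    exact fun y hy => (hmem y).1 (hall P hy) S
  exact (P.is_maximal' S.isPGroup' hle)

/-- The two possible groups. -/
theorem shape (hn : c.n = 1) (hQV : Qc = c.V) (hK : Nat.card ↥c.K ≤ 2) :
    Nonempty (X ≃* Equiv.Perm (Fin 4)) ∨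
      Nonempty (X ≃* Equiv.Perm (Fin 4) × Multiplicative (ZMod 2)) := by
  classical
  haveI : Fact (Nat.Prime 2) := ⟨Nat.prime_two⟩
  haveI : Fact (Nat.Prime 3) := ⟨Nat.prime_three⟩
  obtain ⟨P⟩ : Nonempty (Sylow 3 X) := inferInstance
  let eq : Sylow 3 X ≃ Fin 4 := Finite.equivFinOfCardEq (c.card_sylow_three hn hQV hK P).1
  let φ : X →* Equiv.Perm (Fin 4) :=
    eq.permCongrHom.toMonoidHom.comp (MulAction.toPermHom X (Sylow 3 X))
  have hker : φ.ker = c.K := by
    rw [← c.ker_sylow hn hQV hK]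
    ext g
    exact map_eq_one_iff _ eq.permCongrHom.injective
  have hX := c.card_eq hn hQV
  have h24 : Nat.card (Equiv.Perm (Fin 4)) = 24 := by
    rw [Nat.card_perm, Nat.card_fin]; rfl
  have hK0 : 0 < Nat.card ↥c.K := Nat.card_pos
  obtain hK1 | hK2 : Nat.card ↥c.K = 1 ∨ Nat.card ↥c.K = 2 := by omega
  · left
    refine ⟨MulEquiv.ofBijective φ ((Nat.bijective_iff_injective_and_card φ).2 ⟨?_, ?_⟩)⟩
    · rw [← MonoidHom.ker_eq_bot_iff, hker]; exact Subgroup.card_eq_one.1 hK1
    · rw [hX, hK1, h24]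
  · right
    -- the element `z₀` and the complement to `K` in `T`
    obtain ⟨k, hkK, hk1⟩ : ∃ k ∈ c.K, k ≠ 1 := by
      obtain ⟨k, hk⟩ := Subgroup.ne_bot_iff_exists_ne_one.1
        (fun h : c.K = ⊥ => by rw [h, Subgroup.card_bot] at hK2; omega)
      exact ⟨k, k.2, fun h => hk (Subtype.ext h)⟩
    have hKeq : ∀ k' ∈ c.K, k' = 1 ∨ k' = k := by
      intro k' hk'
      obtain ⟨x, y, hxy, huniv⟩ := Nat.card_eq_two_iff.1 hK2
      have h : ∀ u : ↥c.K, u = x ∨ u = y := fun u => by
        have := Set.mem_univ u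
        rw [← huniv] at this
        simpa using this
      have hne : (⟨k, hkK⟩ : ↥c.K) ≠ 1 := fun h => hk1 (congrArg Subtype.val h)
      rcases h ⟨k', hk'⟩ with h1 | h1 <;> rcases h ⟨k, hkK⟩ with h2 | h2 <;>
        rcases h 1 with h3 | h3
      all_goals first
        | exact Or.inr (congrArg Subtype.val (h1.trans h2.symm))
        | exact Or.inl (congrArg Subtype.val (h1.trans h3.symm))
        | exact absurd (h2.trans h3.symm) hne
    obtain ⟨A, ⟨hAT, -, hA2⟩, -, hAQ⟩ := c.exists_A
    obtain ⟨a, haA, haQ⟩ := SetLike.not_le_iff_exists.1 hAQ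
    have haT := hAT haA
    have haV : a ∉ c.V := hQV ▸ haQ
    have ha2 := hA2 a haA
    obtain ⟨v, hv, hvZ⟩ : ∃ v ∈ c.V, v ∉ c.Z := by
      by_contra h
      push Not at h
      have := c.relIndex_ZV
      rw [Subgroup.relIndex_eq_one.2 h, hn] at this
      omega
    set z := ⁅v, a⁆ with hz
    have hzZ : z ∈ c.Z := c.comm_mem haT hv
    have hzK : z ∉ c.K := c.comm_not_mem haT haQ hv hvZ
    have hv2 := c.V_sq hv
    have hz2 : z * z = 1 := hzZ.2.1
    have hzv : z * v = v * z := c.V_comm (c.Z_le_V hzZ) hv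
    have hza : a * z = z * a := hzZ.2.2 a haT
    have hav : a * v = v * z * a := by
      have hzdef : z = v * a * v * a := by
        rw [hz, commutatorElement_def, inv_eq_of_mul_eq_one_left hv2,
          inv_eq_of_mul_eq_one_left ha2]
      calc a * v = (v * v) * (a * v) * (a * a) := by rw [hv2, ha2, one_mul, mul_one]
        _ = v * z * a := by rw [hzdef]; group
    have hv2' : ∀ x, v * (v * x) = x := fun x => by rw [← mul_assoc, hv2, one_mul]
    have hz2' : ∀ x, z * (z * x) = x := fun x => by rw [← mul_assoc, hz2, one_mul]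
    have ha2' : ∀ x, a * (a * x) = x := fun x => by rw [← mul_assoc, ha2, one_mul]
    have hzv' : ∀ x, z * (v * x) = v * (z * x) := fun x => by rw [← mul_assoc, hzv, mul_assoc]
    have hza' : ∀ x, a * (z * x) = z * (a * x) := fun x => by rw [← mul_assoc, hza, mul_assoc]
    have hav' : ∀ x, a * (v * x) = v * (z * (a * x)) := fun x => by
      rw [← mul_assoc, hav, mul_assoc, mul_assoc]
    have hav1 : a * v = v * (z * a) := by rw [hav, mul_assoc]
    let W : Set X := {1, z, v, v * z}
    let M : Subgroup X :=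
      { carrier := {t | t ∈ W ∨ t * a ∈ W}
        one_mem' := Or.inl (Or.inl rfl)
        mul_mem' := by
          intro p q hp hq
          have hp' : p ∈ W ∨ ∃ w ∈ W, p = w * a := hp.imp id fun h =>
            ⟨p * a, h, by rw [mul_assoc, ha2, mul_one]⟩
          have hq' : q ∈ W ∨ ∃ w ∈ W, q = w * a := hq.imp id fun h =>
            ⟨q * a, h, by rw [mul_assoc, ha2, mul_one]⟩
          show p * q ∈ W ∨ p * q * a ∈ W
          clear hp hq
          rcases hp' with hp | ⟨w, hp, rfl⟩ <;> rcases hq' with hq | ⟨w', hq, rfl⟩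
          · left
            rcases hp with rfl | rfl | rfl | rfl <;> rcases hq with rfl | rfl | rfl | rfl <;>
              simp [W, mul_assoc, hv2, hz2, hv2', hz2', hzv, hzv']
          · right
            rcases hp with rfl | rfl | rfl | rfl <;> rcases hq with rfl | rfl | rfl | rfl <;>
              simp [W, mul_assoc, hv2, hz2, ha2, hv2', hz2', hzv, hzv']
          · right
            rcases hp with rfl | rfl | rfl | rfl <;> rcases hq with rfl | rfl | rfl | rfl <;>
              simp [W, mul_assoc, hv2, hz2, ha2, hv2', hz2', ha2', hzv, hzv', hza, hza', hav1, hav']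
          · left
            rcases hp with rfl | rfl | rfl | rfl <;> rcases hq with rfl | rfl | rfl | rfl <;>
              simp [W, mul_assoc, hv2, hz2, ha2, hv2', hz2', ha2', hzv, hzv', hza, hza', hav1, hav']
        inv_mem' := by
          intro p hp
          have hp' : p ∈ W ∨ ∃ w ∈ W, p = w * a := hp.imp id fun h =>
            ⟨p * a, h, by rw [mul_assoc, ha2, mul_one]⟩
          show p⁻¹ ∈ W ∨ p⁻¹ * a ∈ W
          have hvi := inv_eq_of_mul_eq_one_left hv2
          have hzi := inv_eq_of_mul_eq_one_left hz2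
          have hai := inv_eq_of_mul_eq_one_left ha2
          clear hp
          rcases hp' with hp | ⟨w, hp, rfl⟩
          · left
            rcases hp with rfl | rfl | rfl | rfl <;> simp [W, mul_assoc, hvi, hzi, hzv]
          · right
            rcases hp with rfl | rfl | rfl | rfl <;>
              simp [W, mul_assoc, hvi, hzi, hai, hv2, hz2, ha2, hv2', hz2', ha2', hzv, hzv', hza, hza', hav1,
                hav'] }
    have hWV : ∀ w ∈ W, w ∈ c.V := by
      rintro w (rfl | rfl | rfl | rfl)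
      exacts [one_mem _, c.Z_le_V hzZ, hv, mul_mem hv (c.Z_le_V hzZ)]
    have hMT : M ≤ c.TT := by
      intro t ht
      rcases ht with h | h
      · exact c.V_le_T (hWV t h)
      · have := mul_mem (c.V_le_T (hWV _ h)) haT
        rwa [mul_assoc, ha2, mul_one] at this
    have hkM : k ∉ M := by
      rintro (h | h)
      · rcases h with h | h | h | h
        · exact hk1 h
        · exact hzK (h ▸ hkK)
        · exact hvZ (h ▸ c.K_le_Z hkK)
        · have h1 := mul_mem (c.K_le_Z hkK) hzZ
          rw [h, mul_assoc, hz2, mul_one] at h1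
          exact hvZ h1
      · have := mul_mem (c.V.inv_mem hkK.1) (hWV _ h)
        rw [inv_mul_cancel_left] at this
        exact haV this
    haveI := c.K_normal
    have hTM : c.TT ≤ M ⊔ c.K := by
      have hzM : z ∈ M := Or.inl (Or.inr (Or.inl rfl))
      have hvM : v ∈ M := Or.inl (Or.inr (Or.inr (Or.inl rfl)))
      have haM : a ∈ M := Or.inr (by rw [ha2]; exact Or.inl rfl)
      have h1 : c.Z ≤ M ⊔ c.K := (le_sup_of_two (c.relIndex_KZ_two hn) hzZ hzK).trans
        (sup_le le_sup_right (Subgroup.zpowers_le.2 (Subgroup.mem_sup_left hzM)))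
      have h2 : c.V ≤ M ⊔ c.K := (le_sup_of_two (by rw [c.relIndex_ZV, hn, pow_one]) hv hvZ).trans
        (sup_le h1 (Subgroup.zpowers_le.2 (Subgroup.mem_sup_left hvM)))
      exact (le_sup_of_two (by rw [c.relIndex_QT, hn, pow_one]) haT haQ).trans
        (sup_le (hQV ▸ h2) (Subgroup.zpowers_le.2 (Subgroup.mem_sup_left haM)))
    have hkT : k ∈ c.TT := c.V_le_T hkK.1
    have hk2 : k * k = 1 := c.V_sq hkK.1
    have hidx : (M.subgroupOf c.TT).index = 2 := by
      refine Subgroup.index_eq_two_iff.2 ⟨⟨k, hkT⟩, fun t => ?_⟩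
      simp only [Subgroup.mem_subgroupOf, Subgroup.coe_mul]
      have ht := hTM t.2
      rw [← SetLike.mem_coe, Subgroup.mul_normal M c.K] at ht
      obtain ⟨m, hm, k', hk', hmk⟩ := ht
      replace hmk : m * k' = (t : X) := hmk
      rw [← hmk]
      rcases hKeq k' hk' with rfl | rfl
      · exact Or.inr ⟨by simpa using hm, fun h => hkM (by
          have := mul_mem (inv_mem hm) h
          rwa [mul_one, inv_mul_cancel_left] at this)⟩
      · refine Or.inl ⟨?_, fun h => hkM ?_⟩
        · rw [mul_assoc, hk2, mul_one]; exact hm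
        · have := mul_mem (inv_mem hm) h
          rwa [inv_mul_cancel_left] at this
    haveI : (M.subgroupOf c.TT).Normal := Subgroup.normal_of_index_eq_two hidx
    let χ : ↥c.TT →* Multiplicative (ZMod 2) :=
      (mulEquivOfPrimeCardEq (p := 2) (G := ↥c.TT ⧸ M.subgroupOf c.TT) hidx
        (by simp)).toMonoidHom.comp (QuotientGroup.mk' _)
    let ψ : X →* Multiplicative (ZMod 2) := MonoidHom.transfer χ
    have hTidx : c.TT.index = 3 := by
      have := Subgroup.relIndex_mul_index c.Q_le_T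
      rw [c.relIndex_QT, hn, Subgroup.index_eq_card Qc, c.card_quot hn] at this
      omega
    have hψ : ψ k ≠ 1 := by
      rw [MonoidHom.transfer_eq_pow χ k fun i g _ => by
        rw [mul_assoc, ← Subgroup.mem_center_iff.1 (pow_mem hkK.2 i) g, inv_mul_cancel_left]]
      intro h
      refine hkM ?_
      have h3 : k ^ c.TT.index = k := by rw [hTidx, pow_succ, pow_two, hk2, one_mul]
      rw [MonoidHom.comp_apply, MulEquiv.coe_toMonoidHom, map_eq_one_iff _ (MulEquiv.injective _),
        QuotientGroup.mk'_apply, QuotientGroup.eq_one_iff, Subgroup.mem_subgroupOf] at h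
      rwa [← h3]
    refine ⟨MulEquiv.ofBijective (φ.prod ψ) ((Nat.bijective_iff_injective_and_card _).2 ⟨?_, ?_⟩)⟩
    · rw [← MonoidHom.ker_eq_bot_iff, eq_bot_iff]
      intro g hg
      rw [MonoidHom.mem_ker, MonoidHom.prod_apply, Prod.mk_eq_one] at hg
      have hgK : g ∈ c.K := hker ▸ hg.1
      rcases hKeq g hgK with rfl | rfl
      · exact one_mem _
      · exact absurd hg.2 hψ
    · rw [hX, hK2, Nat.card_prod, h24]; simp

end Ctx

end Cfsg.Agent.Lib.PushUp2
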