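import Cfsg.Agent.Lib.PushUp2.Defs
import Mathlib.Algebra.Group.Subgroup.Pointwise
import Mathlib.Data.Finite.Prod
import Mathlib.Tactic.Linarith

/-!
Vertices (cosets of `X`), edges (conjugates of `T`) and the shift lemma.
-/

set_option autoImplicit false

namespace Cfsg.Agent.Lib.PushUp2

open scoped commutatorElement Pointwise

variable {Γ : Type*} [Group Γ]

theorem le_normalizer_of {H W : Subgroup Γ} (h : ∀ y ∈ H, ∀ a ∈ W, y * a * y⁻¹ ∈ W) :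
    H ≤ Subgroup.normalizer (W : Set Γ) := fun y hy =>
  Subgroup.mem_normalizer_iff.2 fun a => ⟨fun ha => h y hy a ha, fun ha => by
    simpa [mul_assoc] using h y⁻¹ (H.inv_mem hy) _ ha⟩

theorem conj_mem_sup {H K : Subgroup Γ} {y : Γ}
    (h₁ : ∀ a ∈ H, y * a * y⁻¹ ∈ H ⊔ K) (h₂ : ∀ a ∈ K, y * a * y⁻¹ ∈ H ⊔ K) :
    ∀ a ∈ H ⊔ K, y * a * y⁻¹ ∈ H ⊔ K := by
  have h : (H ⊔ K).map (MulAut.conj y).toMonoidHom ≤ H ⊔ K := by
    rw [Subgroup.map_sup]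
    exact sup_le (by rintro _ ⟨a, ha, rfl⟩; exact h₁ a ha) (by rintro _ ⟨a, ha, rfl⟩; exact h₂ a ha)
  exact fun a ha => h ⟨a, ha, rfl⟩

namespace Data

variable (D : Data Γ)

/-- `E` is an edge at the vertex `g`. -/
def IsEdge (g : Γ) (E : Subgroup Γ) : Prop := ∃ x ∈ D.X, E = cj (g * x) D.T

/-- The subgroup `Ω₁(Z(E))` as a predicate. -/
def InZ (E : Subgroup Γ) (z : Γ) : Prop := z ∈ E ∧ z * z = 1 ∧ ∀ t ∈ E, t * z = z * t

/-- The vertices `g`, `h` share the edge `E` with offset `n`. -/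
def AdjN (n g h : Γ) (E : Subgroup Γ) : Prop :=
  n ∈ D.N ∧ ∃ x ∈ D.X, ∃ x' ∈ D.X, h = g * x * n * x' ∧ E = cj (g * x) D.T

variable {D}

theorem cj_mulX (g : Γ) {x : Γ} (hx : x ∈ D.X) :
    cj (g * x) D.V = cj g D.V ∧ cj (g * x) D.Q = cj g D.Q ∧ cj (g * x) D.K = cj g D.K := by
  rw [cj_mul, cj_mul, cj_mul, D.cj_V hx, D.cj_Q hx, D.cj_K hx]
  exact ⟨rfl, rfl, rfl⟩

theorem cj_XX (g : Γ) {x : Γ} (hx : x ∈ D.X) : cj (g * x) D.X = cj g D.X := by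
  rw [cj_mul, cj_eq_of_mem hx]

theorem sameX {g h : Γ} (hgh : g⁻¹ * h ∈ D.X) :
    cj h D.V = cj g D.V ∧ cj h D.Q = cj g D.Q ∧ cj h D.K = cj g D.K := by
  have := cj_mulX g hgh
  rwa [mul_inv_cancel_left] at this

theorem IsEdge.base {g : Γ} {E : Subgroup Γ} (h : D.IsEdge g E) :
    ∃ c : Γ, E = cj c D.T ∧ cj g D.V = cj c D.V ∧ cj g D.Q = cj c D.Q ∧ cj g D.K = cj c D.K ∧
      cj g D.X = cj c D.X := by
  obtain ⟨x, hx, rfl⟩ := h
  obtain ⟨h1, h2, h3⟩ := cj_mulX g hx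
  exact ⟨g * x, rfl, h1.symm, h2.symm, h3.symm, (cj_XX g hx).symm⟩

theorem IsEdge.le_X {g : Γ} {E : Subgroup Γ} (h : D.IsEdge g E) : E ≤ cj g D.X := by
  obtain ⟨c, rfl, -, -, -, hX⟩ := h.base
  rw [hX]; exact cj_mono c D.T_le_X

theorem IsEdge.Q_le {g : Γ} {E : Subgroup Γ} (h : D.IsEdge g E) : cj g D.Q ≤ E := by
  obtain ⟨c, rfl, -, hQ, -, -⟩ := h.base
  rw [hQ]; exact cj_mono c D.Q_le_T

theorem V_conj (g : Γ) {y a : Γ} (hy : y ∈ cj g D.X) (ha : a ∈ cj g D.V) :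
    y * a * y⁻¹ ∈ cj g D.V := by
  rw [mem_cj] at hy ha ⊢
  have := D.V_norm _ hy _ ha
  simpa [mul_assoc] using this

theorem Q_conj (g : Γ) {y a : Γ} (hy : y ∈ cj g D.X) (ha : a ∈ cj g D.Q) :
    y * a * y⁻¹ ∈ cj g D.Q := by
  rw [mem_cj] at hy ha ⊢
  have := D.Q_norm _ hy _ ha
  simpa [mul_assoc] using this

theorem V_sq' {g v : Γ} (hv : v ∈ cj g D.V) : v * v = 1 := by
  rw [mem_cj] at hv
  have h := D.V_sq _ hv
  calc v * v = g * ((g⁻¹ * v * g) * (g⁻¹ * v * g)) * g⁻¹ := by group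
    _ = 1 := by rw [h]; group

theorem comm_cj (c a b : Γ) : c⁻¹ * a * c * (c⁻¹ * b * c) = c⁻¹ * b * c * (c⁻¹ * a * c) ↔ a * b = b * a := by
  rw [show c⁻¹ * a * c * (c⁻¹ * b * c) = c⁻¹ * (a * b) * c by group,
    show c⁻¹ * b * c * (c⁻¹ * a * c) = c⁻¹ * (b * a) * c by group, mul_left_inj, mul_right_inj]

theorem Q_cent' {g a v : Γ} (ha : a ∈ cj g D.Q) (hv : v ∈ cj g D.V) : a * v = v * a :=
  (comm_cj g a v).1 (D.Q_cent _ (mem_cj.1 ha) _ (mem_cj.1 hv))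

theorem IsEdge.mem_Q {g : Γ} {E : Subgroup Γ} (h : D.IsEdge g E) {t : Γ} (ht : t ∈ E)
    (hc : ∀ v ∈ cj g D.V, t * v = v * t) : t ∈ cj g D.Q := by
  obtain ⟨c, rfl, hV, hQ, -, -⟩ := h.base
  rw [hQ, mem_cj]
  refine D.mem_Q _ (mem_cj.1 ht) fun v hv => ?_
  have h1 := hc (c * v * c⁻¹) (hV ▸ conj_mem_cj hv)
  have h2 := (comm_cj c t (c * v * c⁻¹)).2 h1
  simpa [mul_assoc] using h2

theorem inZ_iff (c z : Γ) : InZ (cj c D.T) z ↔ c⁻¹ * z * c ∈ D.Z := by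
  rw [D.mem_Z]
  constructor
  · rintro ⟨h1, h2, h3⟩
    refine ⟨mem_cj.1 h1, ?_, fun t ht => ?_⟩
    · calc c⁻¹ * z * c * (c⁻¹ * z * c) = c⁻¹ * (z * z) * c := by group
        _ = 1 := by rw [h2]; group
    · have h4 := (comm_cj c (c * t * c⁻¹) z).2 (h3 _ (conj_mem_cj ht))
      simpa [mul_assoc] using h4
  · rintro ⟨h1, h2, h3⟩
    refine ⟨mem_cj.2 h1, ?_, fun t ht => (comm_cj c t z).1 (h3 _ (mem_cj.1 ht))⟩
    calc z * z = c * ((c⁻¹ * z * c) * (c⁻¹ * z * c)) * c⁻¹ := by group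
      _ = 1 := by rw [h2]; group

theorem IsEdge.inZ_mem_V {g z : Γ} {E : Subgroup Γ} (h : D.IsEdge g E) (hz : InZ E z) :
    z ∈ cj g D.V := by
  obtain ⟨c, rfl, hV, -, -, -⟩ := h.base
  rw [hV, mem_cj]
  exact D.Z_le_V ((inZ_iff c z).1 hz)

theorem IsEdge.K_inZ {g z : Γ} {E : Subgroup Γ} (h : D.IsEdge g E) (hz : z ∈ cj g D.K) : InZ E z := by
  obtain ⟨c, rfl, -, -, hK, -⟩ := h.base
  rw [hK, mem_cj] at hz
  exact (inZ_iff c z).2 (D.K_le_Z hz)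

theorem IsEdge.fix {g : Γ} {E : Subgroup Γ} (h : D.IsEdge g E) {t v : Γ} (ht : t ∈ E)
    (htQ : t ∉ cj g D.Q) (hv : v ∈ cj g D.V) (hc : t * v = v * t) : InZ E v := by
  obtain ⟨c, rfl, hV, hQ, -, -⟩ := h.base
  rw [hQ] at htQ
  rw [hV] at hv
  exact (inZ_iff c v).2 (D.fix_eq _ (mem_cj.1 ht) (fun h => htQ (mem_cj.2 h)) _ (mem_cj.1 hv)
    ((comm_cj c t v).2 hc))

theorem comm_base (c v t : Γ) : c⁻¹ * ⁅v, t⁆ * c = ⁅c⁻¹ * v * c, c⁻¹ * t * c⁆ := by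
  rw [commutatorElement_def, commutatorElement_def]; group

theorem IsEdge.comm_inZ {g : Γ} {E : Subgroup Γ} (h : D.IsEdge g E) {t v : Γ} (ht : t ∈ E)
    (hv : v ∈ cj g D.V) : InZ E ⁅v, t⁆ := by
  obtain ⟨c, rfl, hV, -, -, -⟩ := h.base
  rw [hV] at hv
  rw [inZ_iff, comm_base]
  exact D.comm_mem _ (mem_cj.1 ht) _ (mem_cj.1 hv)

theorem IsEdge.comm_notK {g : Γ} {E : Subgroup Γ} (h : D.IsEdge g E) {t v : Γ} (ht : t ∈ E)
    (htQ : t ∉ cj g D.Q) (hv : v ∈ cj g D.V) (hvZ : ¬ InZ E v) : ⁅v, t⁆ ∉ cj g D.K := by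
  obtain ⟨c, rfl, hV, hQ, hK, -⟩ := h.base
  rw [hQ] at htQ
  rw [hV] at hv
  rw [hK, mem_cj, comm_base]
  exact D.comm_not_mem _ (mem_cj.1 ht) (fun h => htQ (mem_cj.2 h)) _ (mem_cj.1 hv)
    fun h => hvZ ((inZ_iff c v).2 h)

theorem IsEdge.gen {g : Γ} {E E' : Subgroup Γ} (h : D.IsEdge g E) (h' : D.IsEdge g E')
    (hne : E ≠ E') : cj g D.X ≤ E ⊔ E' := by
  obtain ⟨x, hx, rfl⟩ := h
  obtain ⟨x', hx', rfl⟩ := h'
  have hd : x⁻¹ * x' ∈ D.X := D.X.mul_mem (D.X.inv_mem hx) hx'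
  have e : cj (g * x') D.T = cj (g * x) (cj (x⁻¹ * x') D.T) := by
    rw [← cj_mul, mul_assoc g x, mul_inv_cancel_left]
  rw [e, ← cj_sup, ← cj_XX g hx]
  exact cj_mono _ (D.gen _ hd fun he => hne (by rw [e, he]))

theorem mem_K_of_edges {g v : Γ} {E E' : Subgroup Γ} (h : D.IsEdge g E) (h' : D.IsEdge g E')
    (hne : E ≠ E') (hv : v ∈ cj g D.V) (hc : ∀ t ∈ E, t * v = v * t)
    (hc' : ∀ t ∈ E', t * v = v * t) : v ∈ cj g D.K := by
  have hle : E ⊔ E' ≤ Subgroup.centralizer ({v} : Set Γ) :=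
    sup_le (fun t ht => Subgroup.mem_centralizer_singleton_iff.2 (hc t ht))
      fun t ht => Subgroup.mem_centralizer_singleton_iff.2 (hc' t ht)
  rw [mem_cj]
  refine (D.mem_K _ (mem_cj.1 hv)).2 fun x hx => ?_
  have h1 : g * x * g⁻¹ * v = v * (g * x * g⁻¹) :=
    Subgroup.mem_centralizer_singleton_iff.1 (hle (h.gen h' hne (conj_mem_cj hx)))
  have h2 := (comm_cj g (g * x * g⁻¹) v).2 h1
  simpa [mul_assoc] using h2

theorem IsEdge.moved {g : Γ} {E E' : Subgroup Γ} (h : D.IsEdge g E) (h' : D.IsEdge g E')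
    (hne : E' ≠ E) {t : Γ} (ht : t ∈ E) (htQ : t ∉ cj g D.Q) : cj t E' ≠ E' := by
  obtain ⟨x, hx, rfl⟩ := h
  obtain ⟨x', hx', rfl⟩ := h'
  have hd : x⁻¹ * x' ∈ D.X := D.X.mul_mem (D.X.inv_mem hx) hx'
  have e : cj (g * x') D.T = cj (g * x) (cj (x⁻¹ * x') D.T) := by
    rw [← cj_mul, mul_assoc g x, mul_inv_cancel_left]
  intro heq
  refine D.no_norm ((g * x)⁻¹ * t * (g * x)) (mem_cj.1 ht) (fun hQ => htQ ?_) _ hd
    (fun he => hne (by rw [e, he])) ?_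
  · rw [← (cj_mulX g hx).2.1]; exact mem_cj.2 hQ
  · apply cj_inj (g := g * x)
    rw [← cj_mul, show g * x * ((g * x)⁻¹ * t * (g * x)) = t * (g * x) by group, cj_mul, ← e]
    exact heq

theorem IsEdge.exists_other {g : Γ} {E : Subgroup Γ} (h : D.IsEdge g E) :
    ∃ x ∈ D.X, cj (g * x) D.T ≠ E := by
  obtain ⟨x, hx, rfl⟩ := h
  obtain ⟨y, hy, hne⟩ := D.exists_other
  refine ⟨x * y, D.X.mul_mem hx hy, fun he => hne (cj_inj (g := g * x) ?_)⟩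
  rw [← cj_mul, mul_assoc]; exact he

theorem AdjN.edge {n g h : Γ} {E : Subgroup Γ} (a : D.AdjN n g h E) : D.IsEdge g E := by
  obtain ⟨-, x, hx, x', -, -, he⟩ := a
  exact ⟨x, hx, he⟩

theorem AdjN.symm {n g h : Γ} {E : Subgroup Γ} (a : D.AdjN n g h E) : D.AdjN n⁻¹ h g E := by
  obtain ⟨hn, x, hx, x', hx', rfl, rfl⟩ := a
  refine ⟨D.N.inv_mem hn, x'⁻¹, D.X.inv_mem hx', x⁻¹, D.X.inv_mem hx, by group, ?_⟩
  rw [mul_inv_cancel_right, cj_mul (g * x) n, D.cj_T hn]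

theorem AdjN.edge' {n g h : Γ} {E : Subgroup Γ} (a : D.AdjN n g h E) : D.IsEdge h E := a.symm.edge

theorem AdjN.sameX_left {n g g' h : Γ} {E : Subgroup Γ} (a : D.AdjN n g h E) (hg : g⁻¹ * g' ∈ D.X) :
    D.AdjN n g' h E := by
  obtain ⟨hn, x, hx, x', hx', rfl, rfl⟩ := a
  refine ⟨hn, (g⁻¹ * g')⁻¹ * x, D.X.mul_mem (D.X.inv_mem hg) hx, x', hx', by group, ?_⟩
  congr 1; group

theorem AdjN.sameX_right {n g h h' : Γ} {E : Subgroup Γ} (a : D.AdjN n g h E) (hh : h⁻¹ * h' ∈ D.X) :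
    D.AdjN n g h' E := by
  obtain ⟨hn, x, hx, x', hx', rfl, rfl⟩ := a
  exact ⟨hn, x, hx, x' * ((g * x * n * x')⁻¹ * h'), D.X.mul_mem hx' hh, by group, rfl⟩

theorem AdjN.left_mul {n g h : Γ} {E : Subgroup Γ} (a : D.AdjN n g h E) (c : Γ) :
    D.AdjN n (c * g) (c * h) (cj c E) := by
  obtain ⟨hn, x, hx, x', hx', rfl, rfl⟩ := a
  exact ⟨hn, x, hx, x', hx', by group, by rw [← cj_mul, mul_assoc]⟩

/-- Two neighbours across the same edge are neighbours. -/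
theorem AdjN.share {n m g a b : Γ} {E : Subgroup Γ} (ha : D.AdjN n g a E) (hb : D.AdjN m g b E) :
    ∃ k, D.AdjN k a b E := by
  obtain ⟨hm, y, hy, y', hy', rfl, hE⟩ := hb
  have hs := ha.symm
  obtain ⟨hn, x, hx, x', hx', rfl, rfl⟩ := ha
  have hk : x⁻¹ * y ∈ D.N := Subgroup.mem_normalizer_iff''.2 fun t => by
    have e : cj (x⁻¹ * y) D.T = D.T := cj_inj (g := g * x) (by
      rw [← cj_mul, mul_assoc, mul_inv_cancel_left, hE])
    conv_lhs => rw [← e, mem_cj]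
  refine ⟨n⁻¹ * (x⁻¹ * y) * m, D.N.mul_mem (D.N.mul_mem (D.N.inv_mem hn) hk) hm, x'⁻¹,
    D.X.inv_mem hx', y', hy', by group, ?_⟩
  rw [show g * x * n * x' * x'⁻¹ = g * x * n by group, cj_mul (g * x) n, D.cj_T hn]

/-- Two vertices with noncommuting `V`'s, each contained in an edge at the other. -/
def Crit (D : Data Γ) (g h : Γ) (E E' : Subgroup Γ) : Prop :=
  D.IsEdge g E ∧ D.IsEdge h E' ∧ cj h D.V ≤ E ∧ cj g D.V ≤ E' ∧ ¬ cj g D.V ≤ cj h D.Q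

theorem Crit.symm {g h : Γ} {E E' : Subgroup Γ} (c : D.Crit g h E E') : D.Crit h g E' E := by
  obtain ⟨h1, h2, h3, h4, h5⟩ := c
  refine ⟨h2, h1, h4, h3, fun hle => h5 fun v hv => h2.mem_Q (h4 hv) fun u hu => ?_⟩
  exact (Q_cent' (hle hu) hv).symm

/-- `E = Q_g V_h` for a critical pair. -/
theorem Crit.full {g h : Γ} {E E' : Subgroup Γ} (c : D.Crit g h E E') :
    E = cj g D.Q ⊔ cj h D.V := by
  obtain ⟨h1, h2, h3, h4, h5⟩ := c
  refine le_antisymm ?_ (sup_le h1.Q_le h3)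
  obtain ⟨v, hv, hvQ⟩ := SetLike.not_le_iff_exists.1 h5
  have hinf : cj g D.Q ⊓ cj h D.V ≤ cj h D.V ⊓ E' := by
    rintro u ⟨huQ, huV⟩
    exact ⟨huV, (h2.fix (h4 hv) hvQ huV (Q_cent' huQ hv).symm).1⟩
  obtain ⟨c', rfl, hV', hQ', -, -⟩ := h2.base
  obtain ⟨d, rfl, hVd, hQd, -, -⟩ := h1.base
  haveI := D.finX
  haveI : Finite ↥D.T := Finite.of_injective _ (Subgroup.inclusion_injective D.T_le_X)
  haveI : Finite ↥(cj d D.T) := Finite.of_equiv _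
    (D.T.equivMapOfInjective (MulAut.conj d).toMonoidHom (MulAut.conj d).injective).toEquiv
  haveI : Finite ↥(cj h D.V) := Finite.of_injective _ (Subgroup.inclusion_injective h3)
  set P := cj g D.Q ⊔ cj h D.V with hP
  have hPE : P ≤ cj d D.T := sup_le (hQd.symm ▸ cj_mono d D.Q_le_T) h3
  have hidx : (cj g D.Q).relIndex (cj d D.T) = D.Q.relIndex D.T := by
    rw [hQd]; exact Subgroup.relIndex_map_map_of_injective _ _ (MulAut.conj d).injective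
  have hU : D.Q.relIndex D.T ≤ (cj g D.Q).relIndex (cj h D.V) := by
    have e : (cj c' D.Z).relIndex (cj h D.V) = D.Q.relIndex D.T := by
      rw [hV', ← D.relIndex_eq]
      exact Subgroup.relIndex_map_map_of_injective _ _ (MulAut.conj c').injective
    rw [← e, ← Subgroup.inf_relIndex_right (cj g D.Q) (cj h D.V)]
    refine Subgroup.relIndex_le_of_le_left ?_ ?_
    · intro u hu
      have hu' : InZ (cj c' D.T) u := h2.fix (h4 hv) hvQ hu.2 (Q_cent' hu.1 hv).symm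
      exact mem_cj.2 ((inZ_iff c' u).1 hu')
    · exact Subgroup.index_ne_zero_of_finite
  haveI : Finite ↥P := Finite.of_injective _ (Subgroup.inclusion_injective hPE)
  have h6 : (cj g D.Q).relIndex (cj h D.V) ≤ (cj g D.Q).relIndex P :=
    Subgroup.relIndex_le_of_le_right le_sup_right Subgroup.index_ne_zero_of_finite
  have h7 := Subgroup.relIndex_mul_relIndex (cj g D.Q) P (cj d D.T) le_sup_left hPE
  refine Subgroup.relIndex_eq_one.1 ?_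
  have hpos : 0 < P.relIndex (cj d D.T) := Nat.pos_of_ne_zero Subgroup.index_ne_zero_of_finite
  have hpos' : 0 < (cj g D.Q).relIndex P := Nat.pos_of_ne_zero Subgroup.index_ne_zero_of_finite
  rw [hidx] at h7
  nlinarith

theorem Crit.mem_K {g h v : Γ} {E E' F : Subgroup Γ} (c : D.Crit g h E E') (hF : D.IsEdge g F)
    (hne : F ≠ E) (hv : v ∈ cj g D.V) (hcF : ∀ t ∈ F, t * v = v * t)
    (hch : ∀ w ∈ cj h D.V, w * v = v * w) : v ∈ cj g D.K := by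
  refine mem_K_of_edges hF c.1 hne hv hcF fun t ht => ?_
  rw [c.full] at ht
  have hle : cj g D.Q ⊔ cj h D.V ≤ Subgroup.centralizer ({v} : Set Γ) :=
    sup_le (fun a ha => Subgroup.mem_centralizer_singleton_iff.2 (Q_cent' ha hv))
      fun a ha => Subgroup.mem_centralizer_singleton_iff.2 (hch a ha)
  exact Subgroup.mem_centralizer_singleton_iff.1 (hle ht)

/-- The offset `n` is bad if `X` normalises `V^n V`. -/
def Bad (D : Data Γ) (n : Γ) : Prop :=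
  ∀ x ∈ D.X, ∀ a ∈ cj n D.V ⊔ D.V, x * a * x⁻¹ ∈ cj n D.V ⊔ D.V

theorem AdjN.sup_eq {n g h : Γ} {E : Subgroup Γ} (a : D.AdjN n g h E) :
    ∃ c, cj c D.X = cj g D.X ∧ cj h D.V ⊔ cj g D.V = cj c (cj n D.V ⊔ D.V) := by
  obtain ⟨-, x, hx, x', hx', rfl, -⟩ := a
  refine ⟨g * x, cj_XX g hx, ?_⟩
  rw [cj_sup, (cj_mulX g hx).1, (cj_mulX (g * x * n) hx').1, cj_mul (g * x) n]

theorem AdjN.bad_iff {n g h : Γ} {E : Subgroup Γ} (a : D.AdjN n g h E) :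
    D.Bad n ↔ ∀ y ∈ cj g D.X, ∀ u ∈ cj h D.V ⊔ cj g D.V, y * u * y⁻¹ ∈ cj h D.V ⊔ cj g D.V := by
  obtain ⟨c, hX, hW⟩ := a.sup_eq
  rw [hW, ← hX]
  constructor
  · intro hb y hy u hu
    rw [mem_cj] at hy hu ⊢
    have := hb _ hy _ hu
    simpa [mul_assoc] using this
  · intro hb x hx u hu
    have := hb _ (conj_mem_cj hx) _ (conj_mem_cj hu)
    rw [mem_cj] at this
    simpa [mul_assoc] using this

/-- The shift lemma. -/
theorem shift {g w h n : Γ} {E₀ L E' : Subgroup Γ} (c : D.Crit g w E₀ L) (a : D.AdjN n g h E')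
    (hne : E' ≠ E₀) (hn : ¬ D.Bad n) : ¬ cj h D.V ≤ L := by
  intro hle
  apply hn
  rw [a.bad_iff]
  have hgE' := a.edge
  have hhE' := a.edge'
  have hM : cj g D.X ≤ Subgroup.normalizer ((cj h D.V ⊔ cj g D.V : Subgroup Γ) : Set Γ) := by
    refine (hgE'.gen c.1 hne).trans (sup_le ?_ ?_)
    · refine le_normalizer_of fun y hy => conj_mem_sup
        (fun u hu => Subgroup.mem_sup_left (V_conj h (hhE'.le_X hy) hu))
        fun u hu => Subgroup.mem_sup_right (V_conj g (hgE'.le_X hy) hu)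
    · rw [c.full]
      refine sup_le ?_ ?_
      · refine (hgE'.Q_le.trans ?_)
        exact le_normalizer_of fun y hy => conj_mem_sup
          (fun u hu => Subgroup.mem_sup_left (V_conj h (hhE'.le_X hy) hu))
          fun u hu => Subgroup.mem_sup_right (V_conj g (hgE'.le_X hy) hu)
      · refine le_normalizer_of fun y hy => conj_mem_sup (fun u hu => ?_) fun u hu =>
          Subgroup.mem_sup_right (V_conj g (c.1.le_X (c.2.2.1 hy)) hu)
        have hL := c.symm.full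
        have hmem : u ∈ cj g D.V ⊔ cj w D.Q := by rw [sup_comm, ← hL]; exact hle hu
        have hnorm : cj g D.V ≤ Subgroup.normalizer ((cj w D.Q : Subgroup Γ) : Set Γ) :=
          le_normalizer_of fun z hz q hq => Q_conj w (c.2.1.le_X (c.2.2.2.1 hz)) hq
        rw [← SetLike.mem_coe, Subgroup.coe_mul_of_left_le_normalizer_right _ _ hnorm] at hmem
        obtain ⟨v, hv, q, hq, hvq⟩ := hmem
        have hqy : q * y = y * q := Q_cent' hq hy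
        have e : y * u * y⁻¹ = (y * v * y⁻¹ * v⁻¹) * u := by
          rw [← hvq]
          calc y * (v * q) * y⁻¹ = y * v * (q * y⁻¹) := by group
            _ = y * v * (y⁻¹ * q) := by
              rw [show q * y⁻¹ = y⁻¹ * q from (Commute.inv_right hqy).eq]
            _ = _ := by group
        rw [e]
        exact Subgroup.mul_mem _ (Subgroup.mem_sup_right ((cj g D.V).mul_mem
          (V_conj g (c.1.le_X (c.2.2.1 hy)) hv) ((cj g D.V).inv_mem hv))) (Subgroup.mem_sup_left hu)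
  exact fun y hy u hu => (Subgroup.mem_normalizer_iff.1 (hM hy) u).1 hu

end Data

end Cfsg.Agent.Lib.PushUp2
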